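import Groth.Agent.Lib.CechRes.Sec

/-!
# Exactness on affine sections and on stalks
-/

set_option autoImplicit false
set_option linter.unusedSectionVars false
set_option linter.style.haveILetI false

universe u

open CategoryTheory Limits AlgebraicGeometry Opposite TopologicalSpace HomologicalComplex

namespace Groth.Agent.Lib.CechRes.Crit

open Sec

variable {A : Type u} [CommRing A] {X : Scheme.{u}} (f : X ⟶ Spec (CommRingCat.of A))

/-- Sections of a morphism of modules as a linear map over the functions. -/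
noncomputable def appₗ {M N : X.Modules} (φ : M ⟶ N) (W : X.Opens) : Γ(M, W) →ₗ[Γ(X, W)] Γ(N, W) where
  toFun := φ.app W
  map_add' := map_add _
  map_smul' r m := Scheme.Modules.Hom.app_smul φ r m

/-- `x` lies over the prime of an affine open. -/
lemma exists_point {W : X.Opens} (hW : IsAffineOpen W) (J : Ideal Γ(X, W)) [hJ : J.IsPrime] :
    ∃ x : W, (hW.primeIdealOf x).asIdeal = J := by
  have hx : hW.fromSpec ⟨J, hJ⟩ ∈ W := by
    have h : hW.fromSpec ⟨J, hJ⟩ ∈ hW.fromSpec.opensRange := ⟨_, rfl⟩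
    rwa [hW.opensRange_fromSpec] at h
  refine ⟨⟨_, hx⟩, ?_⟩
  rw [hW.fromSpec.isOpenEmbedding.injective (hW.fromSpec_primeIdealOf ⟨_, hx⟩ :
    hW.fromSpec (hW.primeIdealOf ⟨_, hx⟩) = hW.fromSpec ⟨J, hJ⟩)]

/-- The sequence of sections. -/
lemma exact_secA_iff_function_exact (S : ShortComplex X.Modules) (W : X.Opens) :
    (S.map (secA f W)).Exact ↔ Function.Exact (appₗ S.f W) (appₗ S.g W) :=
  (ShortComplex.ShortExact.moduleCat_exact_iff_function_exact _).trans Iff.rfl

lemma exact_stalk_iff_function_exact (S : ShortComplex X.Modules) (x : X) :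
    (S.map (Modules.Stalk.stalkFunctor X x)).Exact ↔
      Function.Exact (Modules.StalkModule.stalkMapₗ S.f x) (Modules.StalkModule.stalkMapₗ S.g x) :=
  (ShortComplex.ab_exact_iff_function_exact _).trans Iff.rfl

/-- On an affine open the exactness of sections and of stalks agree. -/
theorem exact_secA_iff (S : ShortComplex X.Modules) [S.X₁.IsQuasicoherent] [S.X₂.IsQuasicoherent]
    [S.X₃.IsQuasicoherent] {W : X.Opens} (hW : IsAffineOpen W) :
    (S.map (secA f W)).Exact ↔ ∀ x ∈ W, (S.map (Modules.Stalk.stalkFunctor X x)).Exact := by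
  simp only [exact_secA_iff_function_exact, exact_stalk_iff_function_exact]
  have key : ∀ {x : X} (hx : x ∈ W) {M N : X.Modules} [M.IsQuasicoherent] [N.IsQuasicoherent]
      (φ : M ⟶ N),
      letI := StalkLoc.Basic.moduleSections M hx
      letI := StalkLoc.Basic.moduleSections N hx
      haveI := StalkLoc.Basic.isLocalizedModule_germ (M := M) hW hx
      haveI := StalkLoc.Basic.isLocalizedModule_germ (M := N) hW hx
      ⇑(IsLocalizedModule.map (hW.primeIdealOf ⟨x, hx⟩).asIdeal.primeCompl
          (StalkLoc.Basic.germₗ M hx) (StalkLoc.Basic.germₗ N hx) (appₗ φ W)) =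
        ⇑(Modules.StalkModule.stalkMapₗ φ x) := by
    intro x hx M N _ _ φ
    letI := StalkLoc.Basic.moduleSections M hx
    letI := StalkLoc.Basic.moduleSections N hx
    haveI := StalkLoc.Basic.isLocalizedModule_germ (M := M) hW hx
    haveI := StalkLoc.Basic.isLocalizedModule_germ (M := N) hW hx
    let g : M.presheaf.stalk x →ₗ[Γ(X, W)] N.presheaf.stalk x :=
      { toFun := Modules.StalkModule.stalkMapₗ φ x
        map_add' := map_add _
        map_smul' := fun r m => (Modules.StalkModule.stalkMapₗ φ x).map_smul _ m }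
    refine (congrArg DFunLike.coe (?_ : _ = g)).trans rfl
    refine IsLocalizedModule.linearMap_ext (hW.primeIdealOf ⟨x, hx⟩).asIdeal.primeCompl
      (StalkLoc.Basic.germₗ M hx) (StalkLoc.Basic.germₗ N hx) (LinearMap.ext fun m => ?_)
    refine (IsLocalizedModule.map_apply _ _ _ _ _).trans ?_
    exact (Modules.StalkModule.stalkMapₗ_germ φ hx m).symm
  constructor
  · intro h x hx
    letI := StalkLoc.Basic.moduleSections S.X₁ hx
    letI := StalkLoc.Basic.moduleSections S.X₂ hx
    letI := StalkLoc.Basic.moduleSections S.X₃ hx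
    haveI := StalkLoc.Basic.isLocalizedModule_germ (M := S.X₁) hW hx
    haveI := StalkLoc.Basic.isLocalizedModule_germ (M := S.X₂) hW hx
    haveI := StalkLoc.Basic.isLocalizedModule_germ (M := S.X₃) hW hx
    rw [← key hx S.f, ← key hx S.g]
    exact IsLocalizedModule.map_exact _ _ _ _ _ _ h
  · intro h
    have hP : ∀ (J : Ideal Γ(X, W)) [J.IsMaximal], ∃ x : W, (hW.primeIdealOf x).asIdeal = J :=
      fun J _ => exists_point hW J
    choose pt hpt using hP
    letI := fun (J : Ideal Γ(X, W)) (_ : J.IsMaximal) => StalkLoc.Basic.moduleSections S.X₁ (pt J).2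
    letI := fun (J : Ideal Γ(X, W)) (_ : J.IsMaximal) => StalkLoc.Basic.moduleSections S.X₂ (pt J).2
    letI := fun (J : Ideal Γ(X, W)) (_ : J.IsMaximal) => StalkLoc.Basic.moduleSections S.X₃ (pt J).2
    haveI l₁ : ∀ (J : Ideal Γ(X, W)) [J.IsMaximal],
        IsLocalizedModule.AtPrime J (StalkLoc.Basic.germₗ S.X₁ (pt J).2) := fun J _ => by
      simpa only [IsLocalizedModule.AtPrime, hpt J] using
        StalkLoc.Basic.isLocalizedModule_germ (M := S.X₁) hW (pt J).2
    haveI l₂ : ∀ (J : Ideal Γ(X, W)) [J.IsMaximal],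
        IsLocalizedModule.AtPrime J (StalkLoc.Basic.germₗ S.X₂ (pt J).2) := fun J _ => by
      simpa only [IsLocalizedModule.AtPrime, hpt J] using
        StalkLoc.Basic.isLocalizedModule_germ (M := S.X₂) hW (pt J).2
    haveI l₃ : ∀ (J : Ideal Γ(X, W)) [J.IsMaximal],
        IsLocalizedModule.AtPrime J (StalkLoc.Basic.germₗ S.X₃ (pt J).2) := fun J _ => by
      simpa only [IsLocalizedModule.AtPrime, hpt J] using
        StalkLoc.Basic.isLocalizedModule_germ (M := S.X₃) hW (pt J).2
    refine exact_of_isLocalized_maximal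
      (fun J _ => S.X₁.presheaf.stalk (pt J).1) (fun J _ => StalkLoc.Basic.germₗ S.X₁ (pt J).2)
      (fun J _ => S.X₂.presheaf.stalk (pt J).1) (fun J _ => StalkLoc.Basic.germₗ S.X₂ (pt J).2)
      (fun J _ => S.X₃.presheaf.stalk (pt J).1) (fun J _ => StalkLoc.Basic.germₗ S.X₃ (pt J).2)
      _ _ fun J hJ => ?_
    intro y
    have h' := h _ (pt J).2 y
    have e₂ := congrFun (key (pt J).2 S.g) y
    have e₁ := key (pt J).2 S.f
    simp only [hpt J] at e₁ e₂
    rw [e₂, e₁]
    exact h'

/-- A complex is exact on all stalks over `O`. -/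
def AcycOn (K : CochainComplex X.Modules ℤ) (O : Set X) : Prop :=
  ∀ x ∈ O, (((Modules.Stalk.stalkFunctor X x).mapHomologicalComplex (.up ℤ)).obj K).Acyclic

lemma AcycOn.mono {K : CochainComplex X.Modules ℤ} {O O' : Set X} (h : AcycOn K O) (hO : O' ⊆ O) :
    AcycOn K O' := fun x hx => h x (hO hx)

lemma AcycOn.union {K : CochainComplex X.Modules ℤ} {O O' : Set X} (h : AcycOn K O) (h' : AcycOn K O') :
    AcycOn K (O ∪ O') := fun x hx => hx.elim (h x) (h' x)

theorem acyclic_secA_iff (K : CochainComplex X.Modules ℤ) (hK : ∀ n, (K.X n).IsQuasicoherent)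
    {W : X.Opens} (hW : IsAffineOpen W) :
    (((secA f W).mapHomologicalComplex (.up ℤ)).obj K).Acyclic ↔ AcycOn K (W : Set X) := by
  have h := fun n => @exact_secA_iff A _ X f (K.sc n) (hK ((ComplexShape.up ℤ).prev n)) (hK n)
    (hK ((ComplexShape.up ℤ).next n)) W hW
  exact ⟨fun a x hx n => ((h n).1 (a n)) x hx, fun a n => (h n).2 fun x hx => a x hx n⟩

theorem acyclic_iff_acycOn (K : CochainComplex X.Modules ℤ) : K.Acyclic ↔ AcycOn K Set.univ := by
  refine ⟨fun h x _ n => ?_, fun h n => ?_⟩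
  · exact (h n).map (Modules.Stalk.stalkFunctor X x)
  · exact (Modules.Stalk.exact_iff_stalk _).2 fun x => h x trivial n

/-- Exactness can be checked on a covering of an open by affines. -/
theorem acycOn_of_secA (K : CochainComplex X.Modules ℤ) (hK : ∀ n, (K.X n).IsQuasicoherent)
    (O : Set X) (h : ∀ x ∈ O, ∃ W : X.Opens, IsAffineOpen W ∧ x ∈ W ∧
      (((secA f W).mapHomologicalComplex (.up ℤ)).obj K).Acyclic) : AcycOn K O := fun x hx => by
  obtain ⟨W, hW, hxW, hac⟩ := h x hx
  exact (acyclic_secA_iff f K hK hW).1 hac x hxW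

end Groth.Agent.Lib.CechRes.Crit
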