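import Groth.Agent.Lib.StalkLoc.Basic
import Groth.Agent.Lib.DerivedOX.PullbackStalk
import Groth.Agent.Lib.QCoh.Pullback
import Groth.Agent.Lib.CechRes.Crit
import Mathlib.RingTheory.Localization.BaseChange

/-!
# Sections of the inverse image of a quasi-coherent module on affine opens
-/

set_option autoImplicit false
set_option linter.unusedSectionVars false
set_option linter.style.haveILetI false

universe u

open CategoryTheory Limits AlgebraicGeometry Opposite TopologicalSpace
open scoped TensorProduct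

namespace Groth.Agent.Lib.CechRes.PullSec

open Groth.Agent.Lib

noncomputable section

variable {X Y : Scheme.{u}} (g : X ⟶ Y) (M : Y.Modules) {V : Y.Opens} {U : X.Opens}

local notation "pb" => Scheme.Modules.pullback g

/-- `M(V) → (g^*M)(U)`. -/
def mu (e : U ≤ g ⁻¹ᵁ V) : Γ(M, V) →ₛₗ[(g.appLE V U e).hom] Γ((pb).obj M, U) where
  toFun m := ((pb).obj M).presheaf.map (homOfLE e).op
    (((Scheme.Modules.pullbackPushforwardAdjunction g).unit.app M).app V m)
  map_add' a b := (congrArg (((pb).obj M).presheaf.map (homOfLE e).op)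
    (map_add (((Scheme.Modules.pullbackPushforwardAdjunction g).unit.app M).app V).hom a b)).trans
      (map_add _ _ _)
  map_smul' r m := by
    refine (congrArg (((pb).obj M).presheaf.map (homOfLE e).op)
      (Scheme.Modules.Hom.app_smul ((Scheme.Modules.pullbackPushforwardAdjunction g).unit.app M) r m)).trans ?_
    exact Scheme.Modules.map_smul ((pb).obj M) (homOfLE e) (g.app V r) _

lemma mu_natural {M' : Y.Modules} (φ : M ⟶ M') (e : U ≤ g ⁻¹ᵁ V) (m : Γ(M, V)) :
    mu g M' e (φ.app V m) = ((pb).map φ).app U (mu g M e m) := by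
  have h := (Scheme.Modules.pullbackPushforwardAdjunction g).unit.naturality φ
  have h' : ((Scheme.Modules.pullbackPushforwardAdjunction g).unit.app M').app V (φ.app V m) =
      ((pb).map φ).app (g ⁻¹ᵁ V) (((Scheme.Modules.pullbackPushforwardAdjunction g).unit.app M).app V m) :=
    congrArg (fun (k : M ⟶ (Scheme.Modules.pushforward g).obj ((pb).obj M')) => k.app V m) h
  refine (congrArg (((pb).obj M').presheaf.map (homOfLE e).op) h').trans ?_
  exact (ConcreteCategory.congr_hom (((pb).map φ).mapPresheaf.naturality (homOfLE e).op) _).symm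

lemma mu_res {V' : Y.Opens} {U' : X.Opens} (hV : V' ≤ V) (hU : U' ≤ U) (e : U ≤ g ⁻¹ᵁ V)
    (e' : U' ≤ g ⁻¹ᵁ V') (m : Γ(M, V)) :
    mu g M e' (M.presheaf.map (homOfLE hV).op m) =
      ((pb).obj M).presheaf.map (homOfLE hU).op (mu g M e m) := by
  let η := (Scheme.Modules.pullbackPushforwardAdjunction g).unit.app M
  have h := ConcreteCategory.congr_hom (η.mapPresheaf.naturality (homOfLE hV).op) m
  change ((pb).obj M).presheaf.map (homOfLE e').op (η.app V' (M.presheaf.map (homOfLE hV).op m)) =
    ((pb).obj M).presheaf.map (homOfLE hU).op (((pb).obj M).presheaf.map (homOfLE e).op (η.app V m))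
  refine (congrArg (((pb).obj M).presheaf.map (homOfLE e').op) h).trans ?_
  change ((pb).obj M).presheaf.map (homOfLE e').op
    (((pb).obj M).presheaf.map (homOfLE (g.preimage_mono hV)).op (η.app V m)) = _
  rw [← ConcreteCategory.comp_apply, ← ConcreteCategory.comp_apply, ← CategoryTheory.Functor.map_comp,
    ← CategoryTheory.Functor.map_comp]
  rfl

lemma germ_mu (e : U ≤ g ⁻¹ᵁ V) {x : X} (hx : x ∈ U) (m : Γ(M, V)) :
    ((pb).obj M).presheaf.germ U x hx (mu g M e m) =
      (DerivedOX.PullbackStalk.unitStalk g x M) (M.presheaf.germ V (g.base x) (e hx) m) := by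
  refine Eq.trans ?_ (congrArg (DerivedOX.PullbackStalk.pushStalkMap g x _)
    (Modules.StalkModule.stalkMapₗ_germ
      ((Scheme.Modules.pullbackPushforwardAdjunction g).unit.app M) (e hx) m)).symm
  refine Eq.trans ?_ (DerivedOX.PullbackStalk.pushStalkMap_germ g x _ (e hx) _).symm
  exact TopCat.Presheaf.germ_res_apply ((pb).obj M).presheaf (homOfLE e) x hx _

/-- `(g^*M)_x` is the base change of `M_{g x}`. -/
theorem isBaseChange_unitStalk (x : X) :
    letI : Algebra (Y.presheaf.stalk (g.base x)) (X.presheaf.stalk x) := (g.stalkMap x).hom.toAlgebra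
    letI : Module (Y.presheaf.stalk (g.base x)) (((pb).obj M).presheaf.stalk x) :=
      Module.compHom _ (g.stalkMap x).hom
    haveI : IsScalarTower (Y.presheaf.stalk (g.base x)) (X.presheaf.stalk x)
      (((pb).obj M).presheaf.stalk x) := IsScalarTower.of_algebraMap_smul fun _ _ => rfl
    IsBaseChange (X.presheaf.stalk x)
      ({ toFun := fun a => DerivedOX.PullbackStalk.unitStalk g x M a
         map_add' := map_add (DerivedOX.PullbackStalk.unitStalk g x M).hom
         map_smul' := fun r a => (DerivedOX.PullbackStalk.unitStalk g x M).hom.map_smul r a } :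
        M.presheaf.stalk (g.base x) →ₗ[Y.presheaf.stalk (g.base x)]
          ((pb).obj M).presheaf.stalk x) := by
  letI : Algebra (Y.presheaf.stalk (g.base x)) (X.presheaf.stalk x) := (g.stalkMap x).hom.toAlgebra
  letI : Module (Y.presheaf.stalk (g.base x)) (((pb).obj M).presheaf.stalk x) :=
    Module.compHom _ (g.stalkMap x).hom
  haveI : IsScalarTower (Y.presheaf.stalk (g.base x)) (X.presheaf.stalk x)
    (((pb).obj M).presheaf.stalk x) := IsScalarTower.of_algebraMap_smul fun _ _ => rfl
  refine IsBaseChange.of_equiv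
    ((DerivedOX.PullbackStalk.pullbackStalkIso g x).app M).toLinearEquiv fun a => ?_
  exact DerivedOX.PullbackStalk.comparison_one_tmul g x M a

set_option maxHeartbeats 1000000 in
/-- On affine opens the sections of `g^*M` are the base change of the sections of `M`. -/
theorem isBaseChange_mu [M.IsQuasicoherent] (hV : IsAffineOpen V) (hU : IsAffineOpen U)
    (e : U ≤ g ⁻¹ᵁ V) :
    letI : Algebra Γ(Y, V) Γ(X, U) := (g.appLE V U e).hom.toAlgebra
    letI : Module Γ(Y, V) Γ((pb).obj M, U) := Module.compHom _ (g.appLE V U e).hom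
    haveI : IsScalarTower Γ(Y, V) Γ(X, U) Γ((pb).obj M, U) :=
      IsScalarTower.of_algebraMap_smul fun _ _ => rfl
    IsBaseChange Γ(X, U)
      ({ toFun := mu g M e
         map_add' := (mu g M e).map_add'
         map_smul' := (mu g M e).map_smul' } : Γ(M, V) →ₗ[Γ(Y, V)] Γ((pb).obj M, U)) := by
  haveI : ((pb).obj M).IsQuasicoherent := QCoh.Pullback.isQCoh_pullback g M
  letI : Algebra Γ(Y, V) Γ(X, U) := (g.appLE V U e).hom.toAlgebra
  letI : Module Γ(Y, V) Γ((pb).obj M, U) := Module.compHom _ (g.appLE V U e).hom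
  haveI : IsScalarTower Γ(Y, V) Γ(X, U) Γ((pb).obj M, U) :=
    IsScalarTower.of_algebraMap_smul fun _ _ => rfl
  let f : Γ(M, V) →ₗ[Γ(Y, V)] Γ((pb).obj M, U) :=
    { toFun := mu g M e
      map_add' := (mu g M e).map_add'
      map_smul' := (mu g M e).map_smul' }
  let k : Γ(M, V) →ₗ[Γ(Y, V)] Γ(X, U) ⊗[Γ(Y, V)] Γ(M, V) :=
    TensorProduct.mk Γ(Y, V) Γ(X, U) Γ(M, V) 1
  have hk : IsBaseChange Γ(X, U) k := TensorProduct.isBaseChange _ _ _
  let l : Γ(X, U) ⊗[Γ(Y, V)] Γ(M, V) →ₗ[Γ(X, U)] Γ((pb).obj M, U) := hk.lift f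
  suffices hl : Function.Bijective l from IsBaseChange.of_equiv (LinearEquiv.ofBijective l hl)
    fun m => hk.lift_eq f m
  choose pt hpt using fun (J : Ideal Γ(X, U)) (_ : J.IsMaximal) => Crit.exists_point hU J
  letI := fun (J : Ideal Γ(X, U)) (h : J.IsMaximal) =>
    StalkLoc.Basic.moduleSections ((pb).obj M) (pt J h).2
  have hloc : ∀ (x : X) (hx : x ∈ U),
      letI := StalkLoc.Basic.moduleSections ((pb).obj M) hx
      IsLocalizedModule (hU.primeIdealOf ⟨x, hx⟩).asIdeal.primeCompl
        (StalkLoc.Basic.germₗ ((pb).obj M) hx ∘ₗ l) := by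
    intro x hx
    letI := StalkLoc.Basic.moduleSections ((pb).obj M) hx
    letI := StalkLoc.Basic.moduleSections M (e hx)
    letI : Algebra Γ(X, U) (X.presheaf.stalk x) :=
      TopCat.Presheaf.algebra_section_stalk X.presheaf (⟨x, hx⟩ : U)
    letI : Algebra Γ(Y, V) (Y.presheaf.stalk (g.base x)) :=
      TopCat.Presheaf.algebra_section_stalk Y.presheaf (⟨g.base x, e hx⟩ : V)
    haveI := hU.isLocalization_stalk ⟨x, hx⟩
    haveI := hV.isLocalization_stalk ⟨g.base x, e hx⟩
    haveI := StalkLoc.Basic.isScalarTower_sections ((pb).obj M) hx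
    haveI := StalkLoc.Basic.isScalarTower_sections M (e hx)
    letI : Algebra (Y.presheaf.stalk (g.base x)) (X.presheaf.stalk x) := (g.stalkMap x).hom.toAlgebra
    letI : Module (Y.presheaf.stalk (g.base x)) (((pb).obj M).presheaf.stalk x) :=
      Module.compHom _ (g.stalkMap x).hom
    haveI : IsScalarTower (Y.presheaf.stalk (g.base x)) (X.presheaf.stalk x)
      (((pb).obj M).presheaf.stalk x) := IsScalarTower.of_algebraMap_smul fun _ _ => rfl
    letI : Algebra Γ(Y, V) (X.presheaf.stalk x) :=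
      ((g.appLE V U e ≫ X.presheaf.germ U x hx)).hom.toAlgebra
    letI : Module Γ(Y, V) (((pb).obj M).presheaf.stalk x) :=
      Module.compHom _ ((g.appLE V U e ≫ X.presheaf.germ U x hx)).hom
    have hcomm : ∀ a : Γ(Y, V), X.presheaf.germ U x hx (g.appLE V U e a) =
        g.stalkMap x (Y.presheaf.germ V (g.base x) (e hx) a) := fun a => by
      rw [Scheme.Hom.germ_stalkMap_apply]
      exact TopCat.Presheaf.germ_res_apply X.presheaf (homOfLE e) x hx _
    haveI : IsScalarTower Γ(Y, V) Γ(X, U) (X.presheaf.stalk x) :=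
      IsScalarTower.of_algebraMap_eq fun _ => rfl
    haveI : IsScalarTower Γ(Y, V) (Y.presheaf.stalk (g.base x)) (X.presheaf.stalk x) :=
      IsScalarTower.of_algebraMap_eq hcomm
    haveI : IsScalarTower Γ(Y, V) (X.presheaf.stalk x) (((pb).obj M).presheaf.stalk x) :=
      IsScalarTower.of_algebraMap_smul fun _ _ => rfl
    haveI : IsScalarTower Γ(Y, V) Γ(X, U) (((pb).obj M).presheaf.stalk x) :=
      IsScalarTower.of_algebraMap_smul fun _ _ => rfl
    haveI : IsScalarTower Γ(Y, V) (Y.presheaf.stalk (g.base x)) (((pb).obj M).presheaf.stalk x) :=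
      IsScalarTower.of_algebraMap_smul fun a m => congrArg (· • m) (hcomm a).symm
    haveI := StalkLoc.Basic.isLocalizedModule_germ (M := M) hV (e hx)
    have h1 : IsBaseChange (Y.presheaf.stalk (g.base x)) (StalkLoc.Basic.germₗ M (e hx)) :=
      IsLocalizedModule.isBaseChange (hV.primeIdealOf ⟨g.base x, e hx⟩).asIdeal.primeCompl _ _
    have h2 := h1.comp (isBaseChange_unitStalk g M x)
    rw [isLocalizedModule_iff_isBaseChange (hU.primeIdealOf ⟨x, hx⟩).asIdeal.primeCompl
      (X.presheaf.stalk x)]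
    refine IsBaseChange.of_comp hk ?_
    refine (Eq.mp (congrArg _ (LinearMap.ext fun m => ?_)) h2)
    exact (germ_mu g M e hx m).symm.trans
      (congrArg (((pb).obj M).presheaf.germ U x hx) (hk.lift_eq f m).symm)
  haveI : ∀ (J : Ideal Γ(X, U)) [h : J.IsMaximal],
      IsLocalizedModule.AtPrime J (StalkLoc.Basic.germₗ ((pb).obj M) (pt J h).2) := fun J h => by
    simpa only [IsLocalizedModule.AtPrime, hpt J h] using
      StalkLoc.Basic.isLocalizedModule_germ (M := (pb).obj M) hU (pt J h).2
  haveI : ∀ (J : Ideal Γ(X, U)) [h : J.IsMaximal],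
      IsLocalizedModule.AtPrime J (StalkLoc.Basic.germₗ ((pb).obj M) (pt J h).2 ∘ₗ l) := fun J h => by
    simpa only [IsLocalizedModule.AtPrime, hpt J h] using hloc _ (pt J h).2
  refine bijective_of_isLocalized_maximal
    (fun J h => ((pb).obj M).presheaf.stalk (pt J h).1)
    (fun J h => StalkLoc.Basic.germₗ ((pb).obj M) (pt J h).2 ∘ₗ l)
    (fun J h => ((pb).obj M).presheaf.stalk (pt J h).1)
    (fun J h => StalkLoc.Basic.germₗ ((pb).obj M) (pt J h).2) l fun J hJ => ?_
  have : IsLocalizedModule.map J.primeCompl (StalkLoc.Basic.germₗ ((pb).obj M) (pt J hJ).2 ∘ₗ l)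
      (StalkLoc.Basic.germₗ ((pb).obj M) (pt J hJ).2) l = LinearMap.id :=
    IsLocalizedModule.linearMap_ext J.primeCompl
      (StalkLoc.Basic.germₗ ((pb).obj M) (pt J hJ).2 ∘ₗ l)
      (StalkLoc.Basic.germₗ ((pb).obj M) (pt J hJ).2) (LinearMap.ext fun z => IsLocalizedModule.map_apply _ _ _ _ _)
  rw [this]
  exact Function.bijective_id

end

end Groth.Agent.Lib.CechRes.PullSec
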