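import Groth.Agent.Lib.CechRes.Flat

/-!
# Representatives of `RΓ` from a finite affine cover
-/

set_option autoImplicit false
set_option linter.unusedSectionVars false
set_option linter.style.haveILetI false

universe u

open CategoryTheory Limits AlgebraicGeometry Opposite TopologicalSpace HomologicalComplex

attribute [local instance] HasDerivedCategory.standard

namespace Groth.Agent.Lib.CechRes.Cover

open Sec Res Compute

variable {A : Type u} [CommRing A] {X : Scheme.{u}} (f : X ⟶ Spec (CommRingCat.of A))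

/-- A finite affine cover as a list. -/
theorem exists_list_cover [QuasiCompact f] :
    ∃ l : List X.Opens, (∀ V ∈ l, IsAffineOpen V) ∧ ∀ x : X, ∃ V ∈ l, x ∈ V := by
  haveI : CompactSpace X := QuasiCompact.compactSpace_of_compactSpace f
  obtain ⟨s, hs⟩ := isCompact_univ.elim_finite_subcover (fun W : X.affineOpens => (W.1 : Set X))
    (fun W => W.1.isOpen) fun x _ => by
      obtain ⟨W, hW, hx, -⟩ := exists_isAffineOpen_mem_and_subset (U := ⊤) (x := x) trivial
      exact Set.mem_iUnion.2 ⟨⟨W, hW⟩, hx⟩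
  refine ⟨s.toList.map Subtype.val, ?_, fun x => ?_⟩
  · simp only [List.mem_map]
    rintro V ⟨W, -, rfl⟩
    exact W.2
  · obtain ⟨W, hW, hx⟩ := Set.mem_iUnion₂.1 (hs (Set.mem_univ x))
    exact ⟨W.1, List.mem_map.2 ⟨W, Finset.mem_toList.2 hW, rfl⟩, hx⟩

/-- With `N + 1` affines, `RΓ` of a complex in degrees `[a, b]` is represented by a complex in degrees
`[a, b + N]`. -/
theorem exists_computes [QuasiCompact f] [IsSeparated f] [HTor.HasRΓA f] (N : ℕ)
    (U : Fin (N + 1) → X.Opens) (hU : ∀ i, IsAffineOpen (U i)) (hcov : ⨆ i, U i = ⊤)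
    (P : CochainComplex X.Modules ℤ) (hq : ∀ i, (P.X i).IsQuasicoherent) :
    ∃ G : DRing.Cx A, HTor.Computes f G (DCoh.toD X P) ∧
      ∀ n : ℤ, (∀ j, n - N ≤ j → j ≤ n → IsZero (P.X j)) → IsZero (G.X n) := by
  let l := List.ofFn U
  have hl : ∀ V ∈ l, IsAffineOpen V := fun V hV => by
    obtain ⟨i, rfl⟩ := (List.mem_ofFn' U V).1 hV
    exact hU i
  have hc : ∀ x : X, ∃ V ∈ l, x ∈ V := fun x => by
    obtain ⟨i, hi⟩ := Opens.mem_iSup.1 (hcov ▸ trivial : x ∈ ⨆ i, U i)
    exact ⟨U i, (List.mem_ofFn' U _).2 ⟨i, rfl⟩, hi⟩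
  obtain ⟨r, -, hz⟩ := exists_resolution f l hl hc P hq (WayOut.Scheme.qc X) qc_biprod qc_zero
    (fun V hV M (hM : M.IsQuasicoherent) => isQCoh_E f (hl V hV) M) hq
  refine ⟨_, Resolution.computes f hl r, fun n hn => (secA f ⊤).map_isZero (hz n fun j h h' => ?_)⟩
  exact hn j (by simp only [l, List.length_ofFn] at h; push_cast at h; lia) h'

end Groth.Agent.Lib.CechRes.Cover
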