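import Groth.Agent.Lib.CechRes.Res
import Groth.Agent.Lib.ZarCoh.Morph
import Groth.Agent.Lib.DerivedOX.Exists
import Mathlib.Algebra.Homology.HomotopyCategory.DegreewiseSplit
import Mathlib.Algebra.Homology.HomotopyCategory.ShiftSequence

/-!
# Acyclic resolutions compute derived global sections in `D(A)`
-/

set_option autoImplicit false
set_option linter.unusedSectionVars false
set_option linter.style.haveILetI false

universe u

open CategoryTheory Limits AlgebraicGeometry Opposite TopologicalSpace HomologicalComplex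
open CochainComplex

attribute [local instance] HasDerivedCategory.standard

namespace Groth.Agent.Lib.CechRes.Compute

open Sec Crit Res SpecSeq.RightHom SpecSeq.AcyclicComplex

variable {A : Type u} [CommRing A] {X : Scheme.{u}} (f : X ⟶ Spec (CommRingCat.of A))

/-- Sums of direct images from affines are acyclic for global sections. -/
theorem acyc_apSum [IsSeparated f] {S : Set X.Opens} (hS : ∀ V ∈ S, IsAffineOpen V) {M : X.Modules}
    (hM : APSum S M) : Acyc (WayOut.Scheme.sect (⊤ : X.Opens)) M := by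
  induction hM with
  | @single V M hV h hq =>
    intro n hn
    haveI := hq
    haveI := isAffineHom_ι f (hS V hV)
    haveI : IsIso ((η V).app M) := h
    haveI : (M.restrict V.ι).IsQuasicoherent := inferInstance
    refine WayOut.Scheme.isZero_RS_sect ⊤ 0 M (fun p hp => ?_) n (by simp only [Nat.cast_zero]; lia)
    obtain ⟨q, rfl⟩ : ∃ q, p = q + 1 := ⟨p - 1, by lia⟩
    haveI : IsAffine V.toScheme := hS V hV
    have hV' : Subsingleton (CohTop.HU (Coh.toAb ((Coh.push V.ι).obj (M.restrict V.ι))) (q + 1) ⊤) :=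
      @Equiv.subsingleton _ _ (Equiv.ofBijective _
          (ZarCoh.Morph.pushMap_bijective V.ι (M.restrict V.ι) ⊤ (q + 1)))
        (ZarCoh.Affine.HU_subsingleton (M.restrict V.ι) (isAffineOpen_top V.toScheme) q)
    let i : M ≅ (E V).obj M := @asIso _ _ _ _ ((η V).app M) h
    let e := ((CategoryTheory.Abelian.extFunctorObj (ZarCoh.Basic.Zs.obj (⊤ : Opens X)) (q + 1)).mapIso
      ((SheafOfModules.toSheaf X.ringCatSheaf).mapIso i)).addCommGroupIsoToAddEquiv
    exact @Equiv.subsingleton _ _ e.toEquiv hV'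
  | zero h => exact acyc_of_isZero _ h
  | biprod _ _ a b => exact acyc_biprod _ a b
  | iso e _ a => exact acyc_of_iso _ e a

lemma apSum_qc {S : Set X.Opens} {M : X.Modules} (hM : APSum S M) : M.IsQuasicoherent := by
  induction hM with
  | single _ _ hq => exact hq
  | zero h => exact qc_zero _ h
  | biprod _ _ a b => exact qc_biprod _ _ a b
  | iso e _ a => exact (WayOut.Scheme.qc X).prop_of_iso e a

/-- A complex of sums of direct images from affines computes `RΓ`. -/
theorem computes [QuasiCompact f] [IsSeparated f] [HTor.HasRΓA f] {S : Set X.Opens}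
    (hS : ∀ V ∈ S, IsAffineOpen V) (Q : CochainComplex X.Modules ℤ) (hQ : ∀ n, APSum S (Q.X n)) :
    HTor.Computes f (((secA f ⊤).mapHomologicalComplex (.up ℤ)).obj Q) (DCoh.toD X Q) := by
  let T := WayOut.Scheme.sect (⊤ : X.Opens)
  haveI : CompactSpace X := QuasiCompact.compactSpace_of_compactSpace f
  haveI : QuasiSeparatedSpace X :=
    (quasiSeparatedSpace_iff_quasiSeparated X).2 (by
      rw [← terminal.hom_ext (f ≫ terminal.from _) (terminal.from X)]
      infer_instance)
  obtain ⟨N, hN⟩ := WayOut.Scheme.exists_van_sect (X := X) (W := ⊤) isCompact_univ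
  obtain ⟨I, i, hI, hi⟩ := DerCat.KInjExists.hasKInjRes Q
  have h1 : ∀ n, IsIso ((cmp T n).app Q) := fun n =>
    WayOut.AcyclicCx.isIso_cmp (WayOut.Scheme.detects X) T hN
      (WayOut.Scheme.qc_homology) Q (fun j => apSum_qc (hQ j)) (fun k => acyc_apSum f hS (hQ k)) n
  have h2 : QuasiIso (((secA f ⊤).mapHomologicalComplex (.up ℤ)).map i) := by
    have h3 : QuasiIso ((T.mapHomologicalComplex (.up ℤ)).map i) := ⟨fun n => by
      rw [quasiIsoAt_iff_isIso_homologyMap]
      haveI := h1 n
      haveI := isIso_cmp_of_isKInjective T n I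
      haveI : IsIso ((DerivedCategory.Q ⋙ RH T n).map i) :=
        inferInstanceAs (IsIso ((RH T n).map (DerivedCategory.Q.map i)))
      have e := (cmp T n).naturality i
      haveI : IsIso ((T.mapHomologicalComplex (.up ℤ) ⋙ homologyFunctor _ (.up ℤ) n).map i ≫
          (cmp T n).app I) := by
        rw [e]; infer_instance
      exact IsIso.of_isIso_comp_right
        ((T.mapHomologicalComplex (.up ℤ) ⋙ homologyFunctor _ (.up ℤ) n).map i) ((cmp T n).app I)⟩
    have h4 : QuasiIso (((forget₂ (ModuleCat.{u} A) AddCommGrpCat.{u}).mapHomologicalComplex (.up ℤ)).map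
        (((secA f ⊤).mapHomologicalComplex (.up ℤ)).map i)) := by
      exact h3
    exact (quasiIso_map_iff_of_preservesHomology _ _).1 h4
  haveI := h2
  haveI := DerivedOX.RightDerived.isIso_totalRightDerivedUnit_app_of_isKInjective
    (HTor.gammaAKh f) I
  let u := ((HTor.gammaAKh f).totalRightDerivedUnit DerivedCategory.Qh
    (HomotopyCategory.quasiIso X.Modules (.up ℤ))).app ((HomotopyCategory.quotient X.Modules (.up ℤ)).obj I)
  refine ⟨asIso (DerivedCategory.Q.map (((secA f ⊤).mapHomologicalComplex (.up ℤ)).map i)) ≪≫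
    DerivedCategory.Q.mapIso ((NatIso.mapHomologicalComplex (globalIso f) (.up ℤ)).app I) ≪≫
    ((DerivedCategory.quotientCompQhIso (ModuleCat.{u} A)).app _).symm ≪≫
    DerivedCategory.Qh.mapIso (((HTor.globalSectionsA f).mapHomotopyCategoryFactors (.up ℤ)).app I).symm ≪≫
    asIso u ≪≫ (HTor.RΓA f).mapIso (((DerivedCategory.quotientCompQhIso X.Modules).app I) ≪≫
      (asIso (DerivedCategory.Q.map i)).symm)⟩

/-- The data of a resolution of `P` by sums of direct images. -/
structure Resolution (S : Set X.Opens) (P : CochainComplex X.Modules ℤ) where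
  /-- The resolution. -/
  Q : CochainComplex X.Modules ℤ
  /-- The augmentation. -/
  aug : P ⟶ Q
  qis : QuasiIso aug
  apSum : ∀ n, APSum S (Q.X n)

theorem quasiIso_homOfDegreewiseSplit {C : Type*} [Category C] [Abelian C]
    (S : ShortComplex (CochainComplex C ℤ))
    (σ : ∀ n, (S.map (HomologicalComplex.eval C _ n)).Splitting) (h : S.X₂.Acyclic) :
    QuasiIso (homOfDegreewiseSplit S σ) :=
  (SpecSeq.AcyclicComplex.quasiIso_iff_acyclic_mappingCone _).2 fun n =>
    (acyclic_shift S.X₂ 1 h n).of_iso (mappingConeHomOfDegreewiseSplitIso S σ).symm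

/-- Resolutions exist, with control of the terms. -/
theorem exists_resolution [IsSeparated f] (l : List X.Opens) (hl : ∀ V ∈ l, IsAffineOpen V)
    (hcov : ∀ x : X, ∃ V ∈ l, x ∈ V) (P : CochainComplex X.Modules ℤ)
    (hP : ∀ n, (P.X n).IsQuasicoherent) (Φ : ObjectProperty X.Modules) [Φ.IsClosedUnderIsomorphisms]
    (hb : ∀ M N, Φ M → Φ N → Φ (M ⊞ N)) (h0 : ∀ M, IsZero M → Φ M)
    (hE : ∀ V ∈ l, ∀ M, Φ M → Φ ((E V).obj M)) (hΦ : ∀ n, Φ (P.X n)) :
    ∃ r : Resolution {V | V ∈ l} P, (∀ n, Φ (r.Q.X n)) ∧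
      ∀ n : ℤ, (∀ j, n + 1 - l.length ≤ j → j ≤ n → IsZero (P.X j)) → IsZero (r.Q.X n) := by
  let R : CochainComplex X.Modules ℤ := P⟦(1 : ℤ)⟧
  have hR : ∀ n, (R.X n).IsQuasicoherent := fun n => hP (n + 1)
  let r := res l R
  have hac : r.C.Acyclic := (acyclic_iff_acycOn _).2 fun x _ =>
    acycOn_res f l hl R hR x (hcov x)
  let S : ShortComplex (CochainComplex X.Modules ℤ) :=
    ShortComplex.mk (kernel.ι r.π) r.π (kernel.condition _)
  have hS : S.Exact := ShortComplex.exact_of_f_is_kernel _ (kernelIsKernel r.π)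
  haveI : ∀ n, Mono (S.map (HomologicalComplex.eval X.Modules (.up ℤ) n)).f := fun n =>
    inferInstanceAs (Mono ((HomologicalComplex.eval X.Modules (.up ℤ) n).map (kernel.ι r.π)))
  let σ : ∀ n, (S.map (HomologicalComplex.eval X.Modules (.up ℤ) n)).Splitting := fun n =>
    ShortComplex.Splitting.ofExactOfSection _ (hS.map _) (r.split n).s (r.split n).s_g inferInstance
  have e : ∀ n, Nonempty (r.T n ≅ S.X₁.X n) := fun n =>
    ⟨(r.split n).fIsKernel.conePointUniqueUpToIso (σ n).fIsKernel⟩
  let δ : R ⟶ S.X₁⟦(1 : ℤ)⟧ := homOfDegreewiseSplit S σ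
  let aug : P ⟶ S.X₁ := (CategoryTheory.shiftFunctor (CochainComplex X.Modules ℤ) (1 : ℤ)).preimage δ
  have hq : QuasiIso aug := by
    rw [← CochainComplex.quasiIso_shift_iff aug 1, Functor.map_preimage]
    exact quasiIso_homOfDegreewiseSplit S σ hac
  refine ⟨⟨S.X₁, aug, hq, fun n => .iso (e n).some (apSum_res f l hl R hR n)⟩, fun n => ?_,
    fun n hn => ?_⟩
  · exact Φ.prop_of_iso (e n).some (prop_res Φ hb h0 l hE R (fun m => hΦ (m + 1)) n)
  · exact (isZero_res l R n fun j h h' => hn (j + 1) (by lia) (by lia)).of_iso (e n).some.symm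

/-- A resolution gives a representative of `RΓ`. -/
theorem Resolution.computes [QuasiCompact f] [IsSeparated f] [HTor.HasRΓA f] {S : Set X.Opens}
    (hS : ∀ V ∈ S, IsAffineOpen V) {P : CochainComplex X.Modules ℤ} (r : Resolution S P) :
    HTor.Computes f (((secA f ⊤).mapHomologicalComplex (.up ℤ)).obj r.Q) (DCoh.toD X P) := by
  obtain ⟨e⟩ := Compute.computes f hS r.Q r.apSum
  haveI := r.qis
  exact ⟨e ≪≫ (HTor.RΓA f).mapIso (asIso (DerivedCategory.Q.map r.aug)).symm⟩

end Groth.Agent.Lib.CechRes.Compute
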