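import Groth.Prelude.Def_HTor
import Groth.Agent.Lib.StalkLoc.Basic
import Groth.Agent.Lib.Modules.StalkModule
import Groth.Agent.Lib.WayOut.Scheme
import Mathlib.RingTheory.LocalProperties.Exactness
import Mathlib.RingTheory.Flat.Localization

/-!
# Sections over opens as modules over the base ring

For `f : X ⟶ Spec A` the sections over an open `W` form an `A`-module; for quasi-coherent modules and
affine `W`, exactness of stalks on `W` and exactness of sections over `W` are equivalent.
-/

set_option autoImplicit false
set_option linter.unusedSectionVars false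
set_option linter.style.haveILetI false

universe u

open CategoryTheory Limits AlgebraicGeometry Opposite TopologicalSpace

namespace Groth.Agent.Lib.CechRes.Sec

variable {A : Type u} [CommRing A] {X : Scheme.{u}} (f : X ⟶ Spec (CommRingCat.of A))

/-- The structure map `A → Γ(X, W)`. -/
noncomputable def rho (W : X.Opens) : A →+* Γ(X, W) :=
  ((Scheme.ΓSpecIso (CommRingCat.of A)).inv ≫ f.appLE ⊤ W le_top).hom

lemma rho_res {W W' : X.Opens} (h : W' ≤ W) (a : A) :
    X.presheaf.map (homOfLE h).op (rho f W a) = rho f W' a := by
  simp only [rho, CommRingCat.hom_comp, RingHom.comp_apply]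
  exact ConcreteCategory.congr_hom (f.appLE_map (le_top : W ≤ f ⁻¹ᵁ ⊤) (homOfLE h).op) _

/-- Sections over `W` as `A`-modules. -/
noncomputable def secA (W : X.Opens) : X.Modules ⥤ ModuleCat.{u} A :=
  SheafOfModules.evaluation X.ringCatSheaf (op W) ⋙ ModuleCat.restrictScalars (rho f W)

instance secA_additive (W : X.Opens) : (secA f W).Additive where
  map_add := by
    intros
    rfl

/-- Underlying abelian groups of `secA`. -/
noncomputable def secAForget (W : X.Opens) :
    secA f W ⋙ forget₂ (ModuleCat.{u} A) AddCommGrpCat.{u} ≅ WayOut.Scheme.sect W :=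
  NatIso.ofComponents (fun _ => Iso.refl _) (fun _ => rfl)

/-- An element of `M(W)`, seen in `secA f W M`. -/
def toSec {W : X.Opens} {M : X.Modules} (m : Γ(M, W)) : (secA f W).obj M := m

/-- An element of `secA f W M`, seen in `M(W)`. -/
def ofSec {W : X.Opens} {M : X.Modules} (m : (secA f W).obj M) : Γ(M, W) := m

lemma ofSec_smul {W : X.Opens} {M : X.Modules} (a : A) (m : (secA f W).obj M) :
    ofSec f (a • m) = rho f W a • ofSec f m := rfl

lemma secA_map_apply {W : X.Opens} {M N : X.Modules} (φ : M ⟶ N) (m : (secA f W).obj M) :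
    ofSec f ((secA f W).map φ m) = φ.app W (ofSec f m) := rfl

/-- Restriction maps. -/
noncomputable def resA {W W' : X.Opens} (h : W' ≤ W) : secA f W ⟶ secA f W' where
  app M := ModuleCat.ofHom (X := ((secA f W).obj M : Type u)) (Y := ((secA f W').obj M : Type u))
    { toFun := fun m => toSec f (M.presheaf.map (homOfLE h).op (ofSec f m))
      map_add' := fun _ _ => map_add _ _ _
      map_smul' := fun a m => by
        refine (Scheme.Modules.map_smul M (homOfLE h) (rho f W a) (ofSec f m)).trans ?_
        rw [rho_res f h a]
        rfl }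
  naturality M N φ := by
    refine ModuleCat.hom_ext (LinearMap.ext fun m => ?_)
    exact (ConcreteCategory.congr_hom (φ.mapPresheaf.naturality (homOfLE h).op) (ofSec f m)).symm

lemma resA_apply {W W' : X.Opens} (h : W' ≤ W) (M : X.Modules) (m : (secA f W).obj M) :
    ofSec f ((resA f h).app M m) = M.presheaf.map (homOfLE h).op (ofSec f m) := rfl

lemma bijective_resA_iff {W W' : X.Opens} (h : W' ≤ W) (M : X.Modules) :
    IsIso ((resA f h).app M) ↔ Function.Bijective (M.presheaf.map (homOfLE h).op) :=
  ConcreteCategory.isIso_iff_bijective ((resA f h).app M)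

/-- Global sections with their `A`-module structure. -/
noncomputable def globalIso : secA f ⊤ ≅ HTor.globalSectionsA f :=
  NatIso.ofComponents (fun M => LinearEquiv.toModuleIso
    (X₁ := ((secA f ⊤).obj M : Type u)) (X₂ := ((HTor.globalSectionsA f).obj M : Type u))
    (m₁ := ((secA f ⊤).obj M).isModule) (m₂ := ((HTor.globalSectionsA f).obj M).isModule)
    { toFun := fun m => m
      invFun := fun m => m
      map_add' := fun _ _ => rfl
      map_smul' := fun a m => by
        refine congrArg (fun r : Γ(X, ⊤) => r • ofSec f m) ?_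
        have e1 : f.appLE ⊤ ⊤ le_top = f.app ⊤ := (Scheme.Hom.app_eq_appLE f).symm
        have e2 : (Spec (CommRingCat.of A)).presheaf.map
            ((initialOpOfTerminal (isTerminalTop (α := (Spec (CommRingCat.of A)).Opens))).to (op ⊤)) = 𝟙 _ := by
          rw [Subsingleton.elim ((initialOpOfTerminal _).to (op ⊤)) (𝟙 _), CategoryTheory.Functor.map_id]
        show (f.appLE ⊤ ⊤ le_top).hom ((Scheme.ΓSpecIso (CommRingCat.of A)).inv.hom a) = _
        rw [e1]
        exact congrArg (f.app ⊤).hom (ConcreteCategory.congr_hom e2 _).symm }) (fun _ => rfl)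

end Groth.Agent.Lib.CechRes.Sec
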