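import Groth.Agent.Lib.CechRes.Res
import Mathlib.AlgebraicGeometry.Morphisms.Flat
import Mathlib.Algebra.Category.Ring.Constructions

/-!
# Fibre products of affine opens over `Spec A`, and isomorphisms detected on affine covers
-/

set_option autoImplicit false
set_option linter.unusedSectionVars false
set_option linter.style.haveILetI false

universe u

open CategoryTheory Limits AlgebraicGeometry Opposite TopologicalSpace

namespace Groth.Agent.Lib.CechRes.AffPull

open Sec Crit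

variable {A : Type u} [CommRing A] {Z X₁ X₂ : Scheme.{u}} {p : Z ⟶ X₁} {q : Z ⟶ X₂}
  {f₁ : X₁ ⟶ Spec (CommRingCat.of A)} {f₂ : X₂ ⟶ Spec (CommRingCat.of A)}

lemma ofHom_rho {X : Scheme.{u}} (f : X ⟶ Spec (CommRingCat.of A)) (W : X.Opens) :
    CommRingCat.ofHom (rho f W) =
      (Scheme.ΓSpecIso (CommRingCat.of A)).inv ≫ f.appLE ⊤ W le_top :=
  CommRingCat.ofHom_hom _

/-- Structure maps are compatible with morphisms over the base. -/
lemma appLE_rho {X Y : Scheme.{u}} (g : Y ⟶ X) (f : X ⟶ Spec (CommRingCat.of A)) {W : X.Opens}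
    {U : Y.Opens} (e : U ≤ g ⁻¹ᵁ W) (a : A) : g.appLE W U e (rho f W a) = rho (g ≫ f) U a := by
  simp only [rho, CommRingCat.hom_comp, RingHom.comp_apply]
  exact ConcreteCategory.congr_hom (Scheme.Hom.appLE_comp_appLE g f ⊤ W U le_top e) _

/-- `p⁻¹ W₁ ∩ q⁻¹ W₂`. -/
abbrev box (p : Z ⟶ X₁) (q : Z ⟶ X₂) (W₁ : X₁.Opens) (W₂ : X₂.Opens) : Z.Opens :=
  p ⁻¹ᵁ W₁ ⊓ q ⁻¹ᵁ W₂

variable (H : IsPullback p q f₁ f₂)

include H in
lemma rho_box {W₁ : X₁.Opens} {W₂ : X₂.Opens} (a : A) :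
    p.appLE W₁ (box p q W₁ W₂) inf_le_left (rho f₁ W₁ a) =
      q.appLE W₂ (box p q W₁ W₂) inf_le_right (rho f₂ W₂ a) := by
  rw [appLE_rho, appLE_rho, H.w]

include H in
theorem isAffineOpen_box {W₁ : X₁.Opens} {W₂ : X₂.Opens} (h₁ : IsAffineOpen W₁) (h₂ : IsAffineOpen W₂) :
    IsAffineOpen (box p q W₁ W₂) := by
  haveI : IsAffine _ := h₁
  haveI : IsAffine _ := h₂
  haveI : IsAffine (⊤ : (Spec (CommRingCat.of A)).Opens).toScheme := isAffineOpen_top _
  exact .of_isIso (Scheme.Hom.isPullback_resLE H (US := ⊤) (UT := W₂) (UX := W₁) (UY := box p q W₁ W₂)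
    le_top le_top rfl).isoPullback.hom

include H in
/-- Functions on a product of affines. -/
theorem isPushout_box {W₁ : X₁.Opens} {W₂ : X₂.Opens} (h₁ : IsAffineOpen W₁) (h₂ : IsAffineOpen W₂) :
    IsPushout (CommRingCat.ofHom (rho f₁ W₁)) (CommRingCat.ofHom (rho f₂ W₂))
      (p.appLE W₁ (box p q W₁ W₂) inf_le_left) (q.appLE W₂ (box p q W₁ W₂) inf_le_right) := by
  have := (isIso_pushoutSection_iff H (US := ⊤) (UT := W₂) (UX := W₁) (UY := box p q W₁ W₂)
    le_top le_top rfl).1 (isIso_pushoutSection_of_isAffineOpen H le_top le_top rfl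
      (isAffineOpen_top _) h₂ h₁)
  rw [ofHom_rho, ofHom_rho]
  exact this.of_iso (Scheme.ΓSpecIso (CommRingCat.of A)) (Iso.refl _) (Iso.refl _) (Iso.refl _)
    (by simp) (by simp) (by simp) (by simp)

include H in
/-- The boxes cover. -/
theorem exists_box (z : Z) : ∃ (W₁ : X₁.Opens) (W₂ : X₂.Opens), IsAffineOpen W₁ ∧ IsAffineOpen W₂ ∧
    z ∈ box p q W₁ W₂ := by
  obtain ⟨W₁, h₁, m₁, -⟩ := exists_isAffineOpen_mem_and_subset (U := ⊤) (x := p z) trivial
  obtain ⟨W₂, h₂, m₂, -⟩ := exists_isAffineOpen_mem_and_subset (U := ⊤) (x := q z) trivial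
  exact ⟨W₁, W₂, h₁, h₂, m₁, m₂⟩

/-- A morphism of quasi-coherent modules which is bijective on an affine cover is an isomorphism. -/
theorem isIso_of_app {X : Scheme.{u}} {M N : X.Modules} [M.IsQuasicoherent] [N.IsQuasicoherent]
    (φ : M ⟶ N)
    (h : ∀ x : X, ∃ U : X.Opens, IsAffineOpen U ∧ x ∈ U ∧ Function.Bijective (φ.app U)) :
    IsIso φ := by
  rw [Modules.StalkModule.isIso_iff_stalkMapₗ_bijective]
  intro x
  obtain ⟨U, hU, hx, hinj, hsurj⟩ := h x
  constructor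
  · refine (injective_iff_map_eq_zero _).2 fun v hv => ?_
    obtain ⟨s, t, hs, e⟩ := StalkLoc.Basic.exists_smul_eq_germ hU hx v
    have h0 : N.presheaf.germ U x hx (φ.app U t) = 0 := by
      rw [← Modules.StalkModule.stalkMapₗ_germ φ hx t, ← e, map_smul, hv, smul_zero]
    obtain ⟨g, hg, hgt⟩ := (StalkLoc.Basic.germ_eq_zero_iff hU hx _).1 h0
    rw [← Scheme.Modules.Hom.app_smul, ← map_zero (φ.app U).hom] at hgt
    rw [(StalkLoc.Basic.germ_eq_zero_iff hU hx t).2 ⟨g, hg, hinj hgt⟩] at e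
    exact ((X.mem_basicOpen s x hx).mp hs).smul_eq_zero.mp e
  · intro w
    obtain ⟨s, t', hs, e⟩ := StalkLoc.Basic.exists_smul_eq_germ hU hx w
    obtain ⟨t, rfl⟩ := hsurj t'
    obtain ⟨u, hu⟩ := (X.mem_basicOpen s x hx).mp hs
    refine ⟨(↑u⁻¹ : X.presheaf.stalk x) • M.presheaf.germ U x hx t, ?_⟩
    rw [map_smul, Modules.StalkModule.stalkMapₗ_germ, ← e, ← hu, smul_smul, Units.inv_mul, one_smul]

/-- A natural transformation of additive functors, isomorphism at two objects, is one at their sum. -/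
lemma isIso_app_biprod {C D : Type*} [Category C] [Category D] [Preadditive C] [Preadditive D]
    {F G : C ⥤ D} [F.Additive] [G.Additive] (η : F ⟶ G) (M N : C) [HasBinaryBiproduct M N]
    [IsIso (η.app M)] [IsIso (η.app N)] : IsIso (η.app (M ⊞ N)) := by
  refine ⟨⟨G.map biprod.fst ≫ inv (η.app M) ≫ F.map biprod.inl +
    G.map biprod.snd ≫ inv (η.app N) ≫ F.map biprod.inr, ?_, ?_⟩⟩
  · rw [Preadditive.comp_add, ← Category.assoc, ← Category.assoc (η.app _) (G.map biprod.snd),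
      ← η.naturality, ← η.naturality]
    simp only [Category.assoc, IsIso.hom_inv_id_assoc]
    rw [← F.map_comp, ← F.map_comp, ← F.map_add, biprod.total, F.map_id]
  · rw [Preadditive.add_comp]
    simp only [Category.assoc, η.naturality, IsIso.inv_hom_id_assoc]
    rw [← G.map_comp, ← G.map_comp, ← G.map_add, biprod.total, G.map_id]

end Groth.Agent.Lib.CechRes.AffPull
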