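import Groth.Agent.Lib.CechRes.Compute
import Groth.Agent.Lib.ParaF.ResBij
import Mathlib.Algebra.Category.ModuleCat.Biproducts
import Mathlib.RingTheory.Flat.Stability
import Mathlib.RingTheory.RingHom.Flat

/-!
# Flatness over the base on sections
-/

set_option autoImplicit false
set_option linter.unusedSectionVars false
set_option linter.style.haveILetI false

universe u

open CategoryTheory Limits AlgebraicGeometry Opposite TopologicalSpace

namespace Groth.Agent.Lib.CechRes.Flat

open Sec Crit Res Compute

variable {A : Type u} [CommRing A] {X : Scheme.{u}} (f : X ⟶ Spec (CommRingCat.of A))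

/-- Sections of direct images from `V` are the sections over `V`. -/
theorem isIso_res_of_ap {V W : X.Opens} {M : X.Modules} (h : AP V M) :
    IsIso ((resA f (inf_le_left : W ⊓ V ≤ W)).app M) := by
  rw [bijective_resA_iff]
  have h' : Function.Bijective (((η V).app M).app W) := by
    haveI := h
    exact (ConcreteCategory.isIso_iff_bijective _).1 inferInstance
  rw [Scheme.Modules.restrictAdjunction_unit_app_app] at h'
  exact (ParaF.ResBij.presheaf_map_bijective_congr (M := M) (image_preimage V W) rfl _ _).1 h'

/-- Every affine open has flat sections. -/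
def SecFlat (M : X.Modules) : Prop :=
  ∀ W : X.Opens, IsAffineOpen W → Module.Flat A ((secA f W).obj M)

instance : ObjectProperty.IsClosedUnderIsomorphisms (SecFlat f : ObjectProperty X.Modules) :=
  ⟨fun {M N} e h W hW => by
    haveI := h W hW
    exact Module.Flat.of_linearEquiv ((secA f W).mapIso e).symm.toLinearEquiv⟩

lemma secFlat_zero (M : X.Modules) (hM : IsZero M) : SecFlat f M := fun W _ => by
  haveI : Subsingleton ((secA f W).obj M) :=
    ModuleCat.subsingleton_of_isZero ((secA f W).map_isZero hM)
  infer_instance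

lemma flat_prod {R : Type u} [CommRing R] (M N : Type u) [AddCommGroup M] [AddCommGroup N] [Module R M]
    [Module R N] [Module.Flat R M] [Module.Flat R N] : Module.Flat R (M × N) := by
  rw [Module.Flat.iff_lTensor_preserves_injective_linearMap]
  intro P Q _ _ _ _ g hg
  have e : ∀ z, TensorProduct.prodLeft R R M N Q (g.lTensor (M × N) z) =
      (g.lTensor M (TensorProduct.prodLeft R R M N P z).1,
        g.lTensor N (TensorProduct.prodLeft R R M N P z).2) := fun z => by
    induction z using TensorProduct.induction_on with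
    | zero => simp only [map_zero, Prod.fst_zero, Prod.snd_zero, Prod.zero_eq_mk]
    | tmul x y => obtain ⟨m, n⟩ := x; simp
    | add a b ha hb => simp [ha, hb]
  intro z w h
  have h' := congrArg (TensorProduct.prodLeft R R M N Q) h
  rw [e, e, Prod.mk.injEq] at h'
  exact (TensorProduct.prodLeft R R M N P).injective (Prod.ext
    (Module.Flat.lTensor_preserves_injective_linearMap g hg h'.1)
    (Module.Flat.lTensor_preserves_injective_linearMap g hg h'.2))

lemma secFlat_retract {M N : X.Modules} (i : M ⟶ N) (r : N ⟶ M) (h : i ≫ r = 𝟙 M)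
    (hN : SecFlat f N) : SecFlat f M := fun W hW => by
  haveI := hN W hW
  refine Module.Flat.of_retract ((secA f W).map i).hom ((secA f W).map r).hom ?_
  rw [← ModuleCat.hom_comp, ← Functor.map_comp, h, CategoryTheory.Functor.map_id, ModuleCat.hom_id]

/-- Sections of a biproduct. -/
noncomputable def biprodEquiv (W : X.Opens) (M N : X.Modules) :
    (secA f W).obj (M ⊞ N) ≃ₗ[A] ((secA f W).obj M × (secA f W).obj N) :=
  haveI := preservesBinaryBiproducts_of_preservesBiproducts (secA f W)
  ((secA f W).mapBiprod M N ≪≫ ModuleCat.biprodIsoProd _ _).toLinearEquiv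

lemma secFlat_biprod (M N : X.Modules) (hM : SecFlat f M) (hN : SecFlat f N) : SecFlat f (M ⊞ N) :=
  fun W hW => by
    haveI := hM W hW
    haveI := hN W hW
    haveI : Module.Flat A (((secA f W).obj M × (secA f W).obj N)) :=
      flat_prod _ _
    exact Module.Flat.of_linearEquiv (biprodEquiv f W M N)

lemma secFlat_E [IsSeparated f] {V : X.Opens} (hV : IsAffineOpen V) (M : X.Modules)
    (hM : SecFlat f M) : SecFlat f ((E V).obj M) := fun W hW => by
  haveI := hM _ (isAffineOpen_inf f hW hV)
  exact Module.Flat.of_linearEquiv ((secE f V W).app M).toLinearEquiv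

/-- Flatness over the base gives flat sections. -/
theorem secFlat_of_isFlatOver (M : X.Modules) [M.IsQuasicoherent] (hM : FlatMod.IsFlatOver f M) :
    SecFlat f M := fun W hW => by
  letI : Algebra A Γ(X, W) := (rho f W).toAlgebra
  letI : Module A Γ(M, W) := Module.compHom _ (rho f W)
  haveI : IsScalarTower A Γ(X, W) Γ(M, W) := IsScalarTower.of_algebraMap_smul fun _ _ => rfl
  suffices Module.Flat A Γ(M, W) by exact this
  choose pt hpt using fun (J : Ideal Γ(X, W)) (_ : J.IsMaximal) => exists_point hW J
  letI := fun (J : Ideal Γ(X, W)) (h : J.IsMaximal) => StalkLoc.Basic.moduleSections M (pt J h).2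
  letI := fun (J : Ideal Γ(X, W)) (h : J.IsMaximal) =>
    (Module.compHom (M.presheaf.stalk (pt J h).1) (rho f W) : Module A (M.presheaf.stalk (pt J h).1))
  haveI : ∀ (J : Ideal Γ(X, W)) [h : J.IsMaximal],
      IsScalarTower A Γ(X, W) (M.presheaf.stalk (pt J h).1) :=
    fun J h => IsScalarTower.of_algebraMap_smul fun _ _ => rfl
  haveI : ∀ (J : Ideal Γ(X, W)) [h : J.IsMaximal],
      IsLocalizedModule.AtPrime J (StalkLoc.Basic.germₗ M (pt J h).2) := fun J h => by
    simpa only [IsLocalizedModule.AtPrime, hpt J h] using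
      StalkLoc.Basic.isLocalizedModule_germ (M := M) hW (pt J h).2
  refine Module.flat_of_isLocalized_maximal Γ(X, W) Γ(M, W) (fun J h => M.presheaf.stalk (pt J h).1)
    (fun J h => StalkLoc.Basic.germₗ M (pt J h).2) fun J hJ => ?_
  set x : X := (pt J hJ).1
  let B := (Spec (CommRingCat.of A)).presheaf.stalk (f.base x)
  letI : Module B (M.presheaf.stalk x) := FlatMod.moduleStalkOver f M x
  haveI : Module.Flat B (M.presheaf.stalk x) := hM x
  let g : A →+* B := ((Scheme.ΓSpecIso (CommRingCat.of A)).inv ≫
    (Spec (CommRingCat.of A)).presheaf.germ ⊤ (f.base x) trivial).hom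
  letI : Algebra A B := g.toAlgebra
  haveI : Module.Flat A B := by
    letI := TopCat.Presheaf.algebra_section_stalk (Spec (CommRingCat.of A)).presheaf
      (⟨f.base x, trivial⟩ : (⊤ : (Spec (CommRingCat.of A)).Opens))
    haveI := (isAffineOpen_top (Spec (CommRingCat.of A))).isLocalization_stalk ⟨f.base x, trivial⟩
    have h1 : ((Spec (CommRingCat.of A)).presheaf.germ ⊤ (f.base x) trivial).hom.Flat :=
      RingHom.flat_algebraMap_iff.2 (IsLocalization.flat B
        ((isAffineOpen_top (Spec (CommRingCat.of A))).primeIdealOf ⟨f.base x, trivial⟩).asIdeal.primeCompl)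
    exact RingHom.Flat.comp (RingHom.Flat.of_bijective
      (ConcreteCategory.bijective_of_isIso (Scheme.ΓSpecIso (CommRingCat.of A)).inv)) h1
  haveI : IsScalarTower A B (M.presheaf.stalk x) := IsScalarTower.of_algebraMap_smul fun a m => by
    change ((f.stalkMap x) ((Spec (CommRingCat.of A)).presheaf.germ ⊤ (f.base x) trivial
      ((Scheme.ΓSpecIso (CommRingCat.of A)).inv a))) • m =
      X.presheaf.germ W x (pt J hJ).2 (rho f W a) • m
    rw [Scheme.Hom.germ_stalkMap_apply]
    congr 1
    exact (TopCat.Presheaf.germ_res_apply X.presheaf (homOfLE (le_top : W ≤ f ⁻¹ᵁ ⊤)) x (pt J hJ).2 _).symm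
  exact Module.Flat.trans A B (M.presheaf.stalk x)

theorem flat_apSum [IsSeparated f] {S : Set X.Opens} (hS : ∀ V ∈ S, IsAffineOpen V) {M : X.Modules}
    (hM : APSum S M) : SecFlat f M → Module.Flat A ((secA f ⊤).obj M) := by
  induction hM with
  | @single V M hV h hq =>
    intro hflat
    haveI := isIso_res_of_ap f (W := ⊤) h
    haveI := hflat V (hS V hV)
    haveI : Module.Flat A ((secA f (⊤ ⊓ V)).obj M) := by rw [top_inf_eq]; infer_instance
    exact Module.Flat.of_linearEquiv (asIso ((resA f (inf_le_left : ⊤ ⊓ V ≤ ⊤)).app M)).toLinearEquiv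
  | zero h =>
    intro _
    haveI := ModuleCat.subsingleton_of_isZero ((secA f ⊤).map_isZero h)
    infer_instance
  | @biprod M N hM hN a b =>
    intro h
    haveI := a (secFlat_retract f biprod.inl biprod.fst biprod.inl_fst h)
    haveI := b (secFlat_retract f biprod.inr biprod.snd biprod.inr_snd h)
    haveI : Module.Flat A (((secA f ⊤).obj M × (secA f ⊤).obj N)) :=
      flat_prod _ _
    exact Module.Flat.of_linearEquiv (biprodEquiv f ⊤ M N)
  | @iso M N e hM a =>
    intro h
    haveI := a (ObjectProperty.prop_of_iso (SecFlat f : ObjectProperty X.Modules) e.symm h)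
    exact Module.Flat.of_linearEquiv ((secA f ⊤).mapIso e).symm.toLinearEquiv

end Groth.Agent.Lib.CechRes.Flat
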