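import Groth.Agent.Lib.CechRes.AffPull
import Groth.Agent.Lib.CechRes.PullSec
import Groth.Agent.Lib.CechRes.Cover
import Groth.Agent.Lib.ZarCoh.FlatBC.Main
import Groth.Agent.Lib.DR.FlatAcyclic

/-!
# Base change of resolutions by direct images from affines
-/

set_option autoImplicit false
set_option linter.unusedSectionVars false
set_option linter.style.haveILetI false

universe u

open CategoryTheory Limits AlgebraicGeometry Opposite TopologicalSpace HomologicalComplex
open scoped TensorProduct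

attribute [local instance] HasDerivedCategory.standard

namespace Groth.Agent.Lib.CechRes.BC

open Sec Crit Res Compute AffPull

variable {A A' : Type u} [CommRing A] [CommRing A'] {φ : A →+* A'} {X X' : Scheme.{u}}
  {f : X ⟶ Spec (CommRingCat.of A)} {f' : X' ⟶ Spec (CommRingCat.of A')} {g : X' ⟶ X}
  (H : IsPullback g f' f (Spec.map (CommRingCat.ofHom φ)))

local notation "pb" => Scheme.Modules.pullback g

lemma rho_Spec_map (a : A) :
    rho (Spec.map (CommRingCat.ofHom φ)) ⊤ a =
      (Scheme.ΓSpecIso (CommRingCat.of A')).inv (φ a) := by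
  have e := ConcreteCategory.congr_hom (Scheme.ΓSpecIso_inv_naturality (CommRingCat.ofHom φ)) a
  refine (Eq.trans ?_ e.symm).trans rfl
  simp only [rho, CommRingCat.hom_comp, RingHom.comp_apply, Scheme.Hom.appLE_eq_app]
  rfl

include H in
lemma appLE_rho' {W : X.Opens} {U : X'.Opens} (e : U ≤ g ⁻¹ᵁ W) (a : A) :
    g.appLE W U e (rho f W a) = rho f' U (φ a) := by
  rw [AffPull.appLE_rho, H.w, ← AffPull.appLE_rho f' (Spec.map (CommRingCat.ofHom φ)) (W := ⊤) le_top,
    rho_Spec_map]
  rfl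

/-- `M(W) → (g^*M)(g⁻¹W)` over `φ`. -/
noncomputable def bcHom (W : X.Opens) (M : X.Modules) :
    (secA f W).obj M ⟶
      (ModuleCat.restrictScalars φ).obj ((secA f' (g ⁻¹ᵁ W)).obj ((pb).obj M)) :=
  ModuleCat.ofHom (X := ((secA f W).obj M : Type u))
    (Y := ((ModuleCat.restrictScalars φ).obj ((secA f' (g ⁻¹ᵁ W)).obj ((pb).obj M)) : Type u))
    { toFun := fun m => toSec f' (PullSec.mu g M le_rfl (ofSec f m))
      map_add' := fun a b => map_add (PullSec.mu g M (le_refl (g ⁻¹ᵁ W))) a b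
      map_smul' := fun a m => by
        refine ((PullSec.mu g M (le_refl (g ⁻¹ᵁ W))).map_smulₛₗ (rho f W a) (ofSec f m)).trans ?_
        exact congrArg (fun r : Γ(X', g ⁻¹ᵁ W) => r • PullSec.mu g M (le_refl (g ⁻¹ᵁ W)) (ofSec f m))
          (appLE_rho' H le_rfl a) }

/-- `M(W) ⊗ A' → (g^*M)(g⁻¹W)`. -/
noncomputable def bc (W : X.Opens) :
    secA f W ⋙ ModuleCat.extendScalars.{u, u, u} φ ⟶ pb ⋙ secA f' (g ⁻¹ᵁ W) where
  app M := ((ModuleCat.extendRestrictScalarsAdj.{u} φ).homEquiv _ _).symm (bcHom H W M)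
  naturality M M' ψ := by
    refine ((ModuleCat.extendRestrictScalarsAdj.{u} φ).homEquiv_naturality_left_symm _ _).symm.trans
      (Eq.trans ?_ ((ModuleCat.extendRestrictScalarsAdj.{u} φ).homEquiv_naturality_right_symm _ _))
    refine congrArg _ (ModuleCat.hom_ext (LinearMap.ext fun m => ?_))
    exact PullSec.mu_natural g M ψ le_rfl (ofSec f m)

lemma bc_res {W W' : X.Opens} (h : W' ≤ W) (M : X.Modules) :
    (bc H W).app M ≫ (resA f' (g.preimage_mono h)).app ((pb).obj M) =
      (ModuleCat.extendScalars.{u, u, u} φ).map ((resA f h).app M) ≫ (bc H W').app M := by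
  refine ((ModuleCat.extendRestrictScalarsAdj.{u} φ).homEquiv_naturality_right_symm _ _).symm.trans
    (Eq.trans ?_ ((ModuleCat.extendRestrictScalarsAdj.{u} φ).homEquiv_naturality_left_symm _ _))
  refine congrArg _ (ModuleCat.hom_ext (LinearMap.ext fun m => ?_))
  exact (PullSec.mu_res g M h (g.preimage_mono h) le_rfl le_rfl (ofSec f m)).symm

include H in
lemma isAffineHom_g : IsAffineHom g :=
  MorphismProperty.of_isPullback H.flip (inferInstance : IsAffineHom (Spec.map (CommRingCat.ofHom φ)))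

include H in
lemma isSeparated_f' [IsSeparated f] : IsSeparated f' := MorphismProperty.of_isPullback H inferInstance

set_option maxHeartbeats 1000000 in
/-- Base change on affine opens. -/
theorem isIso_bc {W : X.Opens} (hW : IsAffineOpen W) (M : X.Modules) [M.IsQuasicoherent] :
    IsIso ((bc H W).app M) := by
  haveI := isAffineHom_g H
  rw [ConcreteCategory.isIso_iff_bijective]
  let U := g ⁻¹ᵁ W
  let N := (pb).obj M
  letI : Algebra A Γ(X, W) := (rho f W).toAlgebra
  letI : Algebra A' Γ(X', U) := (rho f' U).toAlgebra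
  letI : Algebra A A' := φ.toAlgebra
  letI : Algebra A Γ(X', U) := ((rho f' U).comp φ).toAlgebra
  haveI : IsScalarTower A A' Γ(X', U) := IsScalarTower.of_algebraMap_eq fun _ => rfl
  letI : Algebra Γ(X, W) Γ(X', U) := (g.appLE W U le_rfl).hom.toAlgebra
  haveI : IsScalarTower A Γ(X, W) Γ(X', U) :=
    IsScalarTower.of_algebraMap_eq fun a => (appLE_rho' H le_rfl a).symm
  haveI : Algebra.IsPushout A A' Γ(X, W) Γ(X', U) := CommRingCat.isPushout_iff_isPushout.mp (by
    have h := AffPull.isPushout_box H hW (isAffineOpen_top (Spec (CommRingCat.of A')))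
    refine h.flip.of_iso (Iso.refl _) (Scheme.ΓSpecIso (CommRingCat.of A')) (Iso.refl _)
      (X'.presheaf.mapIso (eqToIso (by ext1; simp [AffPull.box, U] : g ⁻¹ᵁ W = AffPull.box g f' W ⊤)).op)
      ?_ ?_ ?_ ?_
    · ext a
      show (Scheme.ΓSpecIso (CommRingCat.of A')).hom (rho (Spec.map (CommRingCat.ofHom φ)) ⊤ a) = φ a
      rw [rho_Spec_map]
      exact Iso.inv_hom_id_apply _ _
    · simp
    · rw [← cancel_epi (Scheme.ΓSpecIso (CommRingCat.of A')).inv, Iso.inv_hom_id_assoc]
      ext a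
      change X'.presheaf.map _ (f'.appLE ⊤ _ _ _) = f'.appLE ⊤ U le_top _
      exact ConcreteCategory.congr_hom (f'.appLE_map _ _) _
    · rw [Iso.refl_hom, Category.id_comp]
      exact g.appLE_map _ _)
  letI : Module A Γ(M, W) := Module.compHom _ (rho f W)
  haveI : IsScalarTower A Γ(X, W) Γ(M, W) := IsScalarTower.of_algebraMap_smul fun _ _ => rfl
  have hb := PullSec.isBaseChange_mu g M hW (hW.preimage g) (le_refl U)
  letI : Module Γ(X, W) Γ(N, U) := Module.compHom _ (g.appLE W U le_rfl).hom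
  haveI : IsScalarTower Γ(X, W) Γ(X', U) Γ(N, U) := IsScalarTower.of_algebraMap_smul fun _ _ => rfl
  refine ZarCoh.FlatBC.Main.bijective_of_isPushout (B := A') (R := Γ(X, W)) (R' := Γ(X', U))
    (N := Γ(M, W)) (P := Γ(N, U)) hb.equiv.toLinearMap hb.equiv.bijective
    (AddMonoidHom.mk' (fun z : A' ⊗[A] Γ(M, W) => ((bc H W).app M).hom z) (map_add _)) fun b n => ?_
  show rho f' U b • PullSec.mu g M le_rfl n = _
  exact congrArg (fun t : Γ(N, U) => rho f' U b • t)
    ((IsBaseChange.equiv_tmul hb (1 : Γ(X', U)) n).trans (one_smul _ _)).symm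

/-- A natural transformation which is an isomorphism at the terms of a complex. -/
noncomputable def isoMap {C D : Type*} [Category C] [Category D] [Preadditive C] [Preadditive D]
    {F G : C ⥤ D} [F.Additive] [G.Additive] (η : F ⟶ G) (K : CochainComplex C ℤ)
    (h : ∀ i, IsIso (η.app (K.X i))) :
    (F.mapHomologicalComplex (.up ℤ)).obj K ≅ (G.mapHomologicalComplex (.up ℤ)).obj K :=
  HomologicalComplex.Hom.isoOfComponents (fun i => @asIso _ _ _ _ (η.app (K.X i)) (h i))
    fun _ _ _ => (η.naturality _).symm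

section Sep

variable [IsSeparated f]

include H in
/-- The inverse image of a direct image from an affine is one. -/
theorem ap_pullback {V : X.Opens} (hV : IsAffineOpen V) {M : X.Modules} [M.IsQuasicoherent]
    (h : AP V M) : AP (g ⁻¹ᵁ V) ((pb).obj M) := by
  haveI := isAffineHom_g H
  haveI := isSeparated_f' H
  haveI := QCoh.Pullback.isQCoh_pullback g M
  haveI := Res.isQCoh_E f' (hV.preimage g) ((pb).obj M)
  refine AffPull.isIso_of_app (M := (pb).obj M) (N := (Res.E (g ⁻¹ᵁ V)).obj ((pb).obj M))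
    ((Res.η (g ⁻¹ᵁ V)).app ((pb).obj M)) fun x => ?_
  obtain ⟨W, hW, hx, -⟩ := exists_isAffineOpen_mem_and_subset (U := ⊤) (x := g x) trivial
  refine ⟨g ⁻¹ᵁ W, hW.preimage g, hx, ?_⟩
  have hWV := Res.isAffineOpen_inf f hW hV
  haveI := isIso_bc H hW M
  haveI := isIso_bc H hWV M
  haveI := Flat.isIso_res_of_ap f (W := W) h
  haveI : IsIso ((resA f' (g.preimage_mono (inf_le_left : W ⊓ V ≤ W))).app ((pb).obj M)) := by
    haveI : IsIso ((bc H W).app M ≫
        (resA f' (g.preimage_mono (inf_le_left : W ⊓ V ≤ W))).app ((pb).obj M)) := by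
      rw [bc_res H inf_le_left M]; infer_instance
    exact IsIso.of_isIso_comp_left ((bc H W).app M) _
  have h' : Function.Bijective
      (((pb).obj M).presheaf.map (homOfLE (g.preimage_mono (inf_le_left : W ⊓ V ≤ W))).op) :=
    (bijective_resA_iff f' _ _).1 inferInstance
  rw [Scheme.Modules.restrictAdjunction_unit_app_app]
  exact (ParaF.ResBij.presheaf_map_bijective_congr (M := (pb).obj M)
    (Res.image_preimage (g ⁻¹ᵁ V) (g ⁻¹ᵁ W)) rfl _ (inf_le_left)).2 h'

include H in
/-- Base change of sums of direct images from affines. -/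
theorem apSum_pullback {S : Set X.Opens} (hS : ∀ V ∈ S, IsAffineOpen V) {M : X.Modules}
    (hM : APSum S M) : APSum ((fun V => g ⁻¹ᵁ V) '' S) ((pb).obj M) := by
  induction hM with
  | @single V M hV h hq =>
    exact .single (Set.mem_image_of_mem _ hV) (ap_pullback H (hS V hV) h) (QCoh.Pullback.isQCoh_pullback g M)
  | zero h => exact .zero ((pb).map_isZero h)
  | @biprod M N _ _ a b =>
    haveI := preservesBinaryBiproducts_of_preservesBiproducts (pb)
    exact .iso ((pb).mapBiprod M N).symm (.biprod a b)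
  | iso e _ a => exact .iso ((pb).mapIso e) a

/-- Global sections commute with base change on sums of direct images from affines. -/
theorem isIso_bc_top {S : Set X.Opens} (hS : ∀ V ∈ S, IsAffineOpen V) {M : X.Modules}
    (hM : APSum S M) : IsIso ((bc H ⊤).app M) := by
  induction hM with
  | @single V M hV h hq =>
    haveI := isSeparated_f' H
    haveI := Flat.isIso_res_of_ap f (W := ⊤) h
    haveI := Flat.isIso_res_of_ap f' (W := ⊤) (ap_pullback H (hS V hV) h)
    haveI := isIso_bc H (W := ⊤ ⊓ V) (by rw [top_inf_eq]; exact hS V hV) M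
    haveI : IsIso ((resA f' (g.preimage_mono (inf_le_left : (⊤ : X.Opens) ⊓ V ≤ ⊤))).app ((pb).obj M)) :=
      inferInstanceAs (IsIso ((resA f' (inf_le_left : (⊤ : X'.Opens) ⊓ g ⁻¹ᵁ V ≤ ⊤)).app ((pb).obj M)))
    haveI : IsIso ((bc H ⊤).app M ≫
        (resA f' (g.preimage_mono (inf_le_left : (⊤ : X.Opens) ⊓ V ≤ ⊤))).app ((pb).obj M)) := by
      rw [bc_res H inf_le_left M]; infer_instance
    exact IsIso.of_isIso_comp_right ((bc H ⊤).app M)
      ((resA f' (g.preimage_mono (inf_le_left : (⊤ : X.Opens) ⊓ V ≤ ⊤))).app ((pb).obj M))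
  | @zero M h =>
    exact ⟨0, ((secA f ⊤ ⋙ ModuleCat.extendScalars.{u, u, u} φ).map_isZero h).eq_of_src _ _,
      ((pb ⋙ secA f' (g ⁻¹ᵁ ⊤)).map_isZero h).eq_of_src _ _⟩
  | @biprod M N _ _ a b =>
    haveI := a; haveI := b
    haveI : (secA f ⊤ ⋙ ModuleCat.extendScalars.{u, u, u} φ).Additive := inferInstance
    exact AffPull.isIso_app_biprod (bc H ⊤) M N
  | @iso M N e _ a =>
    exact (NatTrans.isIso_app_iff_of_iso (bc H ⊤) e).1 a

include H in
/-- Pulling back keeps a bounded above acyclic complex with flat sections acyclic. -/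
theorem acyclic_pullback (K : CochainComplex X.Modules ℤ) (hK : ∀ n, (K.X n).IsQuasicoherent)
    (hflat : ∀ n, Flat.SecFlat f (K.X n)) (b : ℤ) (hb : ∀ n, b < n → IsZero (K.X n)) (hac : K.Acyclic) :
    (((pb).mapHomologicalComplex (.up ℤ)).obj K).Acyclic := by
  haveI := isAffineHom_g H
  refine (acyclic_iff_acycOn _).2 (acycOn_of_secA f' _ (fun n => haveI := hK n;
    QCoh.Pullback.isQCoh_pullback g _) _ fun x _ => ?_)
  obtain ⟨W, hW, hx, -⟩ := exists_isAffineOpen_mem_and_subset (U := ⊤) (x := g x) trivial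
  refine ⟨g ⁻¹ᵁ W, hW.preimage g, hx, fun n => ?_⟩
  have h1 : (((secA f W).mapHomologicalComplex (.up ℤ)).obj K).Acyclic :=
    (acyclic_secA_iff f K hK hW).2 (((acyclic_iff_acycOn K).1 hac).mono (Set.subset_univ _))
  have h2 := DR.FlatAcyclic.acyclic_extendScalars φ _ (fun i => hflat i W hW) b
    (fun i hi => (secA f W).map_isZero (hb i hi)) h1
  exact (h2 n).of_iso (isoMap (bc H W) K fun i => haveI := hK i; isIso_bc H hW (K.X i))

include H in
/-- Base change of a flat resolution. -/
theorem exists_computes_pair [QuasiCompact f] [QuasiCompact f'] [HTor.HasRΓA f] [HTor.HasRΓA f']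
    (P : CochainComplex X.Modules ℤ) (hq : ∀ i, (P.X i).IsQuasicoherent)
    (hfl : ∀ i, Flat.SecFlat f (P.X i)) (b : ℤ) (hb : ∀ i, b < i → IsZero (P.X i)) :
    ∃ (G : DRing.Cx A) (c : ℤ), (∀ i, Module.Flat A (G.X i)) ∧ (∀ i, c < i → IsZero (G.X i)) ∧
      HTor.Computes f G (DCoh.toD X P) ∧
      HTor.Computes f' (((ModuleCat.extendScalars.{u, u, u} φ).mapHomologicalComplex (.up ℤ)).obj G)
        (DCoh.toD X' (((pb).mapHomologicalComplex (.up ℤ)).obj P)) := by
  haveI := isSeparated_f' H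
  haveI := isAffineHom_g H
  obtain ⟨l, hl, hcov⟩ := Cover.exists_list_cover f
  obtain ⟨r, hΦ, hz⟩ := exists_resolution f l hl hcov P hq (Flat.SecFlat f) (Flat.secFlat_biprod f)
    (Flat.secFlat_zero f) (fun V hV => Flat.secFlat_E f (hl V hV)) hfl
  have hqQ : ∀ n, (r.Q.X n).IsQuasicoherent := fun n => apSum_qc (r.apSum n)
  have hzQ : ∀ n, b + l.length < n → IsZero (r.Q.X n) := fun n hn => hz n fun j h _ => hb j (by lia)
  let C := CochainComplex.mappingCone r.aug
  haveI := r.qis
  have hC : C.Acyclic := (SpecSeq.AcyclicComplex.quasiIso_iff_acyclic_mappingCone _).1 inferInstance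
  have eC := fun n => (HomologicalComplex.homotopyCofiber.XIsoBiprod r.aug n (n + 1) rfl)
  have hCa := acyclic_pullback H C
    (fun n => (WayOut.Scheme.qc X).prop_of_iso (eC n).symm (qc_biprod _ _ (hq _) (hqQ n)))
    (fun n => ObjectProperty.prop_of_iso (Flat.SecFlat f : ObjectProperty X.Modules) (eC n).symm
      (Flat.secFlat_biprod f _ _ (hfl _) (hΦ n)))
    (b + l.length) (fun n hn => ((biprod_isZero_iff _ _).2 ⟨hb _ (by lia), hzQ n hn⟩).of_iso (eC n)) hC
  let r' : Resolution ((fun V => g ⁻¹ᵁ V) '' {V | V ∈ l}) (((pb).mapHomologicalComplex (.up ℤ)).obj P) :=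
    { Q := ((pb).mapHomologicalComplex (.up ℤ)).obj r.Q
      aug := ((pb).mapHomologicalComplex (.up ℤ)).map r.aug
      qis := (SpecSeq.AcyclicComplex.quasiIso_iff_acyclic_mappingCone _).2 fun n =>
        (hCa n).of_iso (CochainComplex.mappingCone.mapHomologicalComplexIso r.aug (pb))
      apSum := fun n => apSum_pullback H hl (r.apSum n) }
  obtain ⟨e'⟩ := r'.computes f' (by rintro _ ⟨V, hV, rfl⟩; exact (hl V hV).preimage g)
  refine ⟨((secA f ⊤).mapHomologicalComplex (.up ℤ)).obj r.Q, b + l.length,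
    fun i => Flat.flat_apSum f hl (r.apSum i) (hΦ i), fun i hi => (secA f ⊤).map_isZero (hzQ i hi),
    r.computes f hl, ⟨?_⟩⟩
  exact DerivedCategory.Q.mapIso (isoMap (bc H ⊤) r.Q fun i => isIso_bc_top H hl (r.apSum i)) ≪≫ e'

end Sep

end Groth.Agent.Lib.CechRes.BC
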