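import Groth.Agent.Lib.DerivedOX.BifunctorMap

/-!
# Total complexes with finitely many summands in each degree
-/

set_option autoImplicit false
set_option linter.unusedSectionVars false
set_option linter.style.haveILetI false

open CategoryTheory Limits HomologicalComplex

namespace Groth.Agent.Lib.CechRes.BiTotal

open DerivedOX.Bifunctor DerivedOX.BifunctorMap

variable {C₁ C₂ D : Type*} [Category C₁] [Category C₂] [Category D] [Preadditive C₁] [Preadditive C₂]
  [Preadditive D] (F : C₁ ⥤ C₂ ⥤ D) [F.Additive] [∀ X₁, (F.obj X₁).Additive]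
  [∀ (K₁ : CochainComplex C₁ ℤ) (K₂ : CochainComplex C₂ ℤ), HasMapBifunctor K₁ K₂ F (.up ℤ)]
  (K : CochainComplex C₁ ℤ) (L : CochainComplex C₂ ℤ) (n : ℤ)

/-- The summand indexed by `p`. -/
abbrev summand (p : ℤ) : D := (F.obj (K.X p)).obj (L.X (n - p))

/-- Its inclusion. -/
noncomputable def ι (p : ℤ) : summand F K L n p ⟶ (mapBifunctor K L F (.up ℤ)).X n :=
  ιMapBifunctor K L F (.up ℤ) p (n - p) n (by simp)

/-- The projection. -/
noncomputable def π (p : ℤ) : (mapBifunctor K L F (.up ℤ)).X n ⟶ summand F K L n p :=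
  mapBifunctorDesc fun p' q' h =>
    if hp : p' = p then eqToHom (by
      subst hp
      obtain rfl : q' = n - p' := by simp only [ComplexShape.π] at h; change p' + q' = n at h; omega
      rfl)
    else 0

lemma ι_π (p : ℤ) : ι F K L n p ≫ π F K L n p = 𝟙 _ := by
  unfold ι π
  rw [ι_mapBifunctorDesc, dif_pos rfl]
  rfl

lemma ι_π_ne {p p' : ℤ} (h : p ≠ p') : ι F K L n p ≫ π F K L n p' = 0 := by
  unfold ι π
  rw [ι_mapBifunctorDesc, dif_neg h]

variable {F K L n}

lemma sum_π_ι {s : Finset ℤ} (hs : ∀ p, p ∉ s → IsZero (summand F K L n p)) :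
    ∑ p ∈ s, π F K L n p ≫ ι F K L n p = 𝟙 _ := by
  apply mapBifunctor.hom_ext
  intro p q h
  obtain rfl : q = n - p := by change p + q = n at h; omega
  change ι F K L n p ≫ _ = ι F K L n p ≫ _
  rw [Category.comp_id, Preadditive.comp_sum]
  by_cases hp : p ∈ s
  · rw [Finset.sum_eq_single p (fun b _ hb => by rw [← Category.assoc, ι_π_ne F K L n (Ne.symm hb), zero_comp])
      (fun h' => absurd hp h'), ← Category.assoc, ι_π, Category.id_comp]
  · exact (hs p hp).eq_of_src _ _

variable [HasZeroObject D] [HasBinaryBiproducts D]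

open ZeroObject

variable (F K L n) in
/-- The finite sum over a list. -/
noncomputable def lsum : List ℤ → D
  | [] => 0
  | p :: l => summand F K L n p ⊞ lsum l

variable (F K L n) in
/-- Into the total complex. -/
noncomputable def down : ∀ l : List ℤ, lsum F K L n l ⟶ (mapBifunctor K L F (.up ℤ)).X n
  | [] => 0
  | p :: l => biprod.desc (ι F K L n p) (down l)

variable (F K L n) in
/-- Out of the total complex. -/
noncomputable def up : ∀ l : List ℤ, (mapBifunctor K L F (.up ℤ)).X n ⟶ lsum F K L n l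
  | [] => 0
  | p :: l => biprod.lift (π F K L n p) (up l)

lemma ι_up_of_not_mem {p : ℤ} : ∀ {l : List ℤ}, p ∉ l → ι F K L n p ≫ up F K L n l = 0
  | [], _ => comp_zero
  | p' :: l, h => by
    rw [List.mem_cons, not_or] at h
    apply biprod.hom_ext (X := summand F K L n p') (Y := lsum F K L n l)
    · refine (Category.assoc _ _ _).trans ?_
      refine (congrArg (ι F K L n p ≫ ·) (biprod.lift_fst _ _)).trans ?_
      rw [ι_π_ne F K L n h.1]; exact zero_comp.symm
    · refine (Category.assoc _ _ _).trans ?_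
      refine (congrArg (ι F K L n p ≫ ·) (biprod.lift_snd _ _)).trans ?_
      rw [ι_up_of_not_mem h.2]; exact zero_comp.symm

lemma down_π_of_not_mem {p : ℤ} : ∀ {l : List ℤ}, p ∉ l → down F K L n l ≫ π F K L n p = 0
  | [], _ => zero_comp
  | p' :: l, h => by
    rw [List.mem_cons, not_or] at h
    apply biprod.hom_ext' (X := summand F K L n p') (Y := lsum F K L n l)
    · refine (biprod.inl_desc_assoc _ _ _).trans ?_
      rw [ι_π_ne F K L n (Ne.symm h.1)]; exact comp_zero.symm
    · refine (biprod.inr_desc_assoc _ _ _).trans ?_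
      rw [down_π_of_not_mem h.2]; exact comp_zero.symm

lemma down_up : ∀ {l : List ℤ}, l.Nodup → down F K L n l ≫ up F K L n l = 𝟙 _
  | [], _ => (isZero_zero D).eq_of_src _ _
  | p :: l, h => by
    rw [List.nodup_cons] at h
    change biprod.desc _ _ ≫ biprod.lift _ _ = 𝟙 (summand F K L n p ⊞ lsum F K L n l)
    apply biprod.hom_ext' <;> apply biprod.hom_ext
    · simp [ι_π]
    · simp [ι_up_of_not_mem h.1]
    · simp [down_π_of_not_mem h.1]
    · simp [down_up h.2]

lemma up_down : ∀ {l : List ℤ}, l.Nodup →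
    up F K L n l ≫ down F K L n l = ∑ p ∈ l.toFinset, π F K L n p ≫ ι F K L n p
  | [], _ => by simp [up, down]
  | p :: l, h => by
    rw [List.nodup_cons] at h
    change biprod.lift _ _ ≫ biprod.desc _ _ = _
    rw [biprod.lift_desc, up_down h.2, List.toFinset_cons, Finset.sum_insert (by simpa using h.1)]

/-- A class of objects containing the summands contains the terms of the total complex. -/
theorem prop_term {s : Finset ℤ} (hs : ∀ p, p ∉ s → IsZero (summand F K L n p)) (P : D → Prop)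
    (h0 : ∀ {M : D}, IsZero M → P M) (hb : ∀ {M N : D}, P M → P N → P (M ⊞ N))
    (hi : ∀ {M N : D}, (M ≅ N) → P M → P N) (h : ∀ p ∈ s, P (summand F K L n p)) :
    P ((mapBifunctor K L F (.up ℤ)).X n) := by
  have hl : ∀ l : List ℤ, (∀ p ∈ l, p ∈ s) → P (lsum F K L n l) := by
    intro l hl
    induction l with
    | nil => exact h0 (isZero_zero D)
    | cons p l ih => exact hb (h p (hl p List.mem_cons_self)) (ih fun q hq => hl q (List.mem_cons_of_mem _ hq))
  refine hi ⟨down F K L n s.toList, up F K L n s.toList, down_up s.nodup_toList, ?_⟩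
    (hl _ fun p hp => Finset.mem_toList.1 hp)
  rw [up_down s.nodup_toList, Finset.toList_toFinset, sum_π_ι hs]

section Comparison

variable {C₁' C₂' D' : Type*} [Category C₁'] [Category C₂'] [Category D']
  [Preadditive C₁'] [Preadditive C₂'] [Preadditive D']
  (F) (F' : C₁' ⥤ C₂' ⥤ D') [F'.Additive] [∀ X₁, (F'.obj X₁).Additive]
  [∀ (K₁ : CochainComplex C₁' ℤ) (K₂ : CochainComplex C₂' ℤ), HasMapBifunctor K₁ K₂ F' (.up ℤ)]
  (S₁ : C₁ ⥤ C₁') [S₁.Additive] (S₂ : C₂ ⥤ C₂') [S₂.Additive] (G : D ⥤ D') [G.Additive]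

/-- A natural map between bifunctors along functors on the sources and on the target. -/
structure MapData where
  /-- The components. -/
  app : ∀ a b, (F'.obj (S₁.obj a)).obj (S₂.obj b) ⟶ G.obj ((F.obj a).obj b)
  natural₁ : ∀ {a a' : C₁} (f : a ⟶ a') (b : C₂),
    (F'.map (S₁.map f)).app (S₂.obj b) ≫ app a' b = app a b ≫ G.map ((F.map f).app b)
  natural₂ : ∀ (a : C₁) {b b' : C₂} (g : b ⟶ b'),
    (F'.obj (S₁.obj a)).map (S₂.map g) ≫ app a b' = app a b ≫ G.map ((F.obj a).map g)

attribute [reassoc] MapData.natural₁ MapData.natural₂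

variable {F F' S₁ S₂ G} (θ : MapData F F' S₁ S₂ G)
variable (K L) in
/-- The map of total complexes in a given degree. -/
noncomputable def homX (n : ℤ) :
    (mapBifunctor (map₁ S₁ K) (map₂ S₂ L) F' (.up ℤ)).X n ⟶ G.obj ((mapBifunctor K L F (.up ℤ)).X n) :=
  mapBifunctorDesc fun p q h =>
    θ.app (K.X p) (L.X q) ≫ G.map (ιMapBifunctor K L F (.up ℤ) p q n h)

@[reassoc]
lemma ι_homX (p q n : ℤ) (h : p + q = n) :
    ιMapBifunctor (map₁ S₁ K) (map₂ S₂ L) F' (.up ℤ) p q n h ≫ homX K L θ n =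
      θ.app (K.X p) (L.X q) ≫ G.map (ιMapBifunctor K L F (.up ℤ) p q n h) :=
  ι_mapBifunctorDesc _ p q h

variable (K L) in
/-- The map of total complexes. -/
noncomputable def totalMap :
    mapBifunctor (map₁ S₁ K) (map₂ S₂ L) F' (.up ℤ) ⟶
      (G.mapHomologicalComplex (.up ℤ)).obj (mapBifunctor K L F (.up ℤ)) where
  f n := homX K L θ n
  comm' := by
    rintro n n' hn
    change n + 1 = n' at hn
    apply mapBifunctor.hom_ext
    intro p q h
    have hp : (ComplexShape.up ℤ).Rel p (p + 1) := rfl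
    have hq : (ComplexShape.up ℤ).Rel q (q + 1) := rfl
    change p + q = n at h
    have h₁ : (p + 1) + q = n' := by omega
    have h₂ : p + (q + 1) = n' := by omega
    refine (Category.assoc _ _ _).symm.trans ((congrArg (· ≫ G.map ((mapBifunctor K L F (.up ℤ)).d n n'))
      (ι_homX θ p q n h)).trans ((Category.assoc _ _ _).trans
      ((congrArg (θ.app (K.X p) (L.X q) ≫ ·) (G.map_comp _ _).symm).trans ?_)))
    simp only [mapBifunctor.d_eq, Preadditive.add_comp, Preadditive.comp_add, G.map_add,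
      mapBifunctor.ι_D₁_assoc, mapBifunctor.ι_D₂_assoc, mapBifunctor.ι_D₁, mapBifunctor.ι_D₂]
    rw [mapBifunctor.d₁_eq _ _ _ _ hp q n' h₁, mapBifunctor.d₂_eq _ _ _ _ p hq n' h₂,
      mapBifunctor.d₁_eq (map₁ S₁ K) (map₂ S₂ L) F' _ hp q n' h₁, mapBifunctor.d₂_eq (map₁ S₁ K) (map₂ S₂ L) F' _ p hq n' h₂]
    congr 1
    · simp only [Functor.mapHomologicalComplex_obj_d,
        Functor.mapHomologicalComplex_obj_X, Units.smul_def, G.map_zsmul, Preadditive.comp_zsmul,
        G.map_comp]
      refine Eq.trans ?_ (Preadditive.zsmul_comp ..).symm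
      refine congrArg (_ • ·) (Eq.trans ?_ (Category.assoc _ _ _).symm)
      exact (θ.natural₁_assoc _ _ _).symm.trans
        (congrArg ((F'.map (S₁.map (K.d p (p + 1)))).app (S₂.obj (L.X q)) ≫ ·) (ι_homX θ (p + 1) q n' h₁).symm)
    · simp only [Functor.mapHomologicalComplex_obj_d,
        Functor.mapHomologicalComplex_obj_X, Units.smul_def, G.map_zsmul, Preadditive.comp_zsmul,
        G.map_comp]
      refine Eq.trans ?_ (Preadditive.zsmul_comp ..).symm
      refine congrArg (_ • ·) (Eq.trans ?_ (Category.assoc _ _ _).symm)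
      exact (θ.natural₂_assoc _ _ _).symm.trans
        (congrArg ((F'.obj (S₁.obj (K.X p))).map (S₂.map (L.d q (q + 1))) ≫ ·) (ι_homX θ p (q + 1) n' h₂).symm)

/-- With finitely many summands, isomorphisms on summands give an isomorphism. -/
theorem isIso_homX {s : Finset ℤ} (hs : ∀ p, p ∉ s → IsZero (summand F K L n p))
    (hθ : ∀ p q, IsIso (θ.app (K.X p) (L.X q))) : IsIso (homX K L θ n) := by
  haveI := hθ
  have e : ∀ p, ι F' (map₁ S₁ K) (map₂ S₂ L) n p ≫ homX K L θ n =
      θ.app (K.X p) (L.X (n - p)) ≫ G.map (ι F K L n p) := fun p => ι_homX θ p (n - p) n (by omega)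
  refine ⟨∑ p ∈ s, G.map (π F K L n p) ≫ inv (θ.app (K.X p) (L.X (n - p))) ≫
    ι F' (map₁ S₁ K) (map₂ S₂ L) n p, ?_, ?_⟩
  · apply mapBifunctor.hom_ext
    intro p q h
    obtain rfl : q = n - p := by change p + q = n at h; omega
    refine ((Category.assoc _ _ _).symm.trans (congrArg (· ≫ _) (e p))).trans ?_
    refine Eq.trans ?_ (Category.comp_id _).symm
    refine (Category.assoc _ _ _).trans ((congrArg (θ.app (K.X p) (L.X (n - p)) ≫ ·) (Preadditive.comp_sum _ _ _)).trans
      ((Preadditive.comp_sum _ _ _).trans ?_))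
    by_cases hp : p ∈ s
    · rw [Finset.sum_eq_single p (fun b _ hb => ?_) (fun h' => absurd hp h')]
      · rw [← Functor.map_comp_assoc, ι_π, G.map_id, Category.id_comp, IsIso.hom_inv_id_assoc]
        rfl
      · rw [← Functor.map_comp_assoc, ι_π_ne F K L n (Ne.symm hb), G.map_zero, zero_comp, comp_zero]
    · have hz : IsZero ((F'.obj (S₁.obj (K.X p))).obj (S₂.obj (L.X (n - p)))) :=
        (G.map_isZero (hs p hp)).of_iso (asIso (θ.app (K.X p) (L.X (n - p))))
      exact hz.eq_of_src _ _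
  · simp only [Preadditive.sum_comp, Category.assoc]
    calc ∑ p ∈ s, G.map (π F K L n p) ≫ inv (θ.app (K.X p) (L.X (n - p))) ≫
          ι F' (map₁ S₁ K) (map₂ S₂ L) n p ≫ homX K L θ n
        = ∑ p ∈ s, G.map (π F K L n p ≫ ι F K L n p) := by
          refine Finset.sum_congr rfl fun p _ => ?_
          refine (congrArg (G.map (π F K L n p) ≫ ·) ((congrArg (inv (θ.app (K.X p) (L.X (n - p))) ≫ ·) (e p)).trans
            (IsIso.inv_hom_id_assoc _ _))).trans ?_
          exact (G.map_comp _ _).symm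
      _ = 𝟙 _ := by rw [← G.map_sum, sum_π_ι hs, G.map_id]

variable (K L) in
/-- The isomorphism of total complexes. -/
noncomputable def totalIso (hs : ∀ n, ∃ s : Finset ℤ, ∀ p, p ∉ s → IsZero (summand F K L n p))
    (hθ : ∀ p q, IsIso (θ.app (K.X p) (L.X q))) :
    mapBifunctor (map₁ S₁ K) (map₂ S₂ L) F' (.up ℤ) ≅
      (G.mapHomologicalComplex (.up ℤ)).obj (mapBifunctor K L F (.up ℤ)) :=
  HomologicalComplex.Hom.isoOfComponents
    (fun n => @asIso _ _ _ _ ((totalMap K L θ).f n) (isIso_homX θ (hs n).choose_spec hθ))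
    fun n n' _ => (totalMap K L θ).comm n n'

lemma totalMap_natural {K' : CochainComplex C₁ ℤ} {L' : CochainComplex C₂ ℤ} (f : K ⟶ K') (g : L ⟶ L') :
    mapBifunctorMap ((S₁.mapHomologicalComplex (.up ℤ)).map f)
        ((S₂.mapHomologicalComplex (.up ℤ)).map g) F' (.up ℤ) ≫ totalMap K' L' θ =
      totalMap K L θ ≫ (G.mapHomologicalComplex (.up ℤ)).map (mapBifunctorMap f g F (.up ℤ)) := by
  ext n p q h
  simp only [HomologicalComplex.comp_f, totalMap, ι_mapBifunctorMap_assoc,
    Functor.mapHomologicalComplex_map_f]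
  refine Eq.trans (congrArg _ (congrArg _ (ι_homX θ p q n h))) (Eq.trans ?_
    (((Category.assoc _ _ _).symm.trans (congrArg (· ≫ G.map ((mapBifunctorMap f g F (.up ℤ)).f n))
      (ι_homX θ p q n h))).symm))
  refine Eq.trans ?_ (Category.assoc _ _ _).symm
  refine Eq.trans ?_ (congrArg _ ((congrArg G.map (ι_mapBifunctorMap (f₁ := f) (f₂ := g) (F := F) (.up ℤ) p q n h).symm).trans
    (G.map_comp _ _)))
  rw [G.map_comp, G.map_comp]
  exact (congrArg ((F'.map (S₁.map (f.f p))).app (S₂.obj (L.X q)) ≫ ·) (θ.natural₂_assoc _ _ _)).trans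
    (θ.natural₁_assoc _ _ _)

end Comparison

end Groth.Agent.Lib.CechRes.BiTotal
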