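import Groth.Agent.Lib.DR.BaseChange
import Groth.Prelude.Def_HTor

/-!
# Lifting isomorphisms in the derived category of modules to quasi-isomorphisms
-/

set_option autoImplicit false
set_option linter.style.haveILetI false

universe u

open CategoryTheory Limits

attribute [local instance] HasDerivedCategory.standard

namespace Groth.Agent.Lib.CechRes.Lift

variable {A : Type u} [CommRing A]

/-- An isomorphism out of a bounded above complex of projectives comes from a quasi-isomorphism. -/
theorem exists_quasiIso {L G : CochainComplex (ModuleCat.{u} A) ℤ} (hL : ∀ i, Projective (L.X i))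
    (c : ℤ) (hc : ∀ i, c < i → IsZero (L.X i))
    (α : DerivedCategory.Q.obj L ≅ DerivedCategory.Q.obj G) :
    ∃ s : L ⟶ G, QuasiIso s ∧ DerivedCategory.Q.map s = α.hom := by
  haveI : L.IsKProjective :=
    haveI : L.IsStrictlyLE c := (L.isStrictlyLE_iff c).2 hc
    haveI := hL
    CochainComplex.isKProjective_of_projective L c
  let q := DerivedCategory.quotientCompQhIso (ModuleCat.{u} A)
  obtain ⟨s', hs'⟩ := (CochainComplex.IsKProjective.Qh_map_bijective L _).2
    ((q.app L).hom ≫ α.hom ≫ (q.app G).inv)
  obtain ⟨s, rfl⟩ := (HomotopyCategory.quotient (ModuleCat.{u} A) (ComplexShape.up ℤ)).map_surjective s'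
  have hQs : DerivedCategory.Q.map s = α.hom := by
    have h := q.hom.naturality s
    simp only [Functor.comp_map, hs'] at h
    simpa [q] using h.symm
  haveI : IsIso (DerivedCategory.Q.map s) := by rw [hQs]; infer_instance
  exact ⟨s, (DerivedCategory.isIso_Q_map_iff_quasiIso _ _).1 inferInstance, hQs⟩

theorem flat_of_projective {M : ModuleCat.{u} A} (h : Projective M) : Module.Flat A M :=
  Groth.Agent.Lib.DR.BaseChange.flat_of_proj _
    (haveI := h; (IsProjective.iff_projective _).2 inferInstance)

end Groth.Agent.Lib.CechRes.Lift
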