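import Groth.Agent.Lib.CechRes.AffPull
import Groth.Agent.Lib.CechRes.PullSec
import Groth.Agent.Lib.CechRes.Flat
import Groth.Agent.Lib.CechRes.BiTotal
import Groth.Agent.Lib.Modules.TensorAffine
import Groth.Agent.Lib.ZarCoh.FlatBC.Main

/-!
# External tensor products on products of affines
-/

set_option autoImplicit false
set_option linter.unusedSectionVars false
set_option linter.style.haveILetI false

universe u

open CategoryTheory Limits AlgebraicGeometry Opposite TopologicalSpace HomologicalComplex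
open MonoidalCategory
open scoped TensorProduct

namespace Groth.Agent.Lib.CechRes.Pair

open Sec Crit Res AffPull
open Groth.Agent.Lib.Modules (TensorSec.tens)

variable {A : Type u} [CommRing A] {Z X₁ X₂ : Scheme.{u}} (p : Z ⟶ X₁) (q : Z ⟶ X₂)

/-- `(M, N) ↦ p^*M ⊗ q^*N`. -/
noncomputable abbrev T : X₁.Modules ⥤ X₂.Modules ⥤ Z.Modules :=
  Scheme.Modules.pullback p ⋙ DCoh.tensorBi ⋙
    (Functor.whiskeringLeft _ _ _).obj (Scheme.Modules.pullback q)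

instance T_additive : (T p q).Additive := inferInstance

instance T_obj_additive (M : X₁.Modules) : ((T p q).obj M).Additive :=
  inferInstanceAs (Scheme.Modules.pullback q ⋙
    DCoh.tensorBi.obj ((Scheme.Modules.pullback p).obj M)).Additive

lemma tensorBi_map_app {Y : Scheme.{u}} {M M' : Y.Modules} (a : M ⟶ M') (N : Y.Modules) :
    (DCoh.tensorBi.map a).app N = TensorMod.Basic.tmap a (𝟙 N) := by
  change (CohB1.sheafifyMod Y).map (DCoh.toP.map a ▷ DCoh.toP.obj N) = _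
  rw [← MonoidalCategory.tensorHom_id]
  rfl

lemma tensorBi_obj_map {Y : Scheme.{u}} (M : Y.Modules) {N N' : Y.Modules} (b : N ⟶ N') :
    (DCoh.tensorBi.obj M).map b = TensorMod.Basic.tmap (𝟙 M) b := by
  change (CohB1.sheafifyMod Y).map (DCoh.toP.obj M ◁ DCoh.toP.map b) = _
  rw [← MonoidalCategory.id_tensorHom]
  rfl

lemma isQCoh_T (M : X₁.Modules) (N : X₂.Modules) [M.IsQuasicoherent] [N.IsQuasicoherent] :
    (((T p q).obj M).obj N).IsQuasicoherent :=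
  haveI := QCoh.Pullback.isQCoh_pullback p M
  haveI := QCoh.Pullback.isQCoh_pullback q N
  TensorMod.TensorQCoh.isQCoh_tensorMod _ _

variable {p q} {f₁ : X₁ ⟶ Spec (CommRingCat.of A)} {f₂ : X₂ ⟶ Spec (CommRingCat.of A)}
  (H : IsPullback p q f₁ f₂)

variable {W₁ : X₁.Opens} {W₂ : X₂.Opens} {U : Z.Opens}

/-- The product of a section on `X₁` and a section on `X₂`. -/
noncomputable def prodSec (e₁ : U ≤ p ⁻¹ᵁ W₁) (e₂ : U ≤ q ⁻¹ᵁ W₂) {M : X₁.Modules} {N : X₂.Modules}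
    (m : Γ(M, W₁)) (n : Γ(N, W₂)) : Γ(((T p q).obj M).obj N, U) :=
  Modules.TensorSec.tens (PullSec.mu p M e₁ m) (PullSec.mu q N e₂ n)

include H in
lemma appLE_rho₁ (e₁ : U ≤ p ⁻¹ᵁ W₁) (a : A) : p.appLE W₁ U e₁ (rho f₁ W₁ a) = rho (p ≫ f₁) U a :=
  AffPull.appLE_rho p f₁ e₁ a

include H in
lemma appLE_rho₂ (e₂ : U ≤ q ⁻¹ᵁ W₂) (a : A) : q.appLE W₂ U e₂ (rho f₂ W₂ a) = rho (p ≫ f₁) U a := by
  rw [AffPull.appLE_rho q f₂ e₂ a, H.w]

/-- `M(W₁) ⊗ N(W₂) → (p^*M ⊗ q^*N)(U)`. -/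
noncomputable def mul (e₁ : U ≤ p ⁻¹ᵁ W₁) (e₂ : U ≤ q ⁻¹ᵁ W₂) (M : X₁.Modules) (N : X₂.Modules) :
    (secA f₁ W₁).obj M ⊗ (secA f₂ W₂).obj N ⟶ (secA (p ≫ f₁) U).obj (((T p q).obj M).obj N) :=
  ModuleCat.ofHom
    (X := (((secA f₁ W₁).obj M : Type u) ⊗[A] ((secA f₂ W₂).obj N : Type u) : Type u))
    (Y := ((secA (p ≫ f₁) U).obj (((T p q).obj M).obj N) : Type u))
    (TensorProduct.lift (LinearMap.mk₂ A
      (fun m n => toSec (p ≫ f₁) (prodSec e₁ e₂ (ofSec f₁ m) (ofSec f₂ n)))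
      (fun m m' n => (congrArg (Modules.TensorSec.tens · (PullSec.mu q N e₂ (ofSec f₂ n)))
        (map_add (PullSec.mu p M e₁) _ _)).trans (Modules.TensorSec.tens_add_left _ _ _))
      (fun a m n => by
        refine (congrArg (Modules.TensorSec.tens · (PullSec.mu q N e₂ (ofSec f₂ n)))
          ((PullSec.mu p M e₁).map_smulₛₗ (rho f₁ W₁ a) (ofSec f₁ m))).trans ?_
        refine (Modules.TensorSec.tens_smul_left _ _ _).trans ?_
        exact congrArg (fun r : Γ(Z, U) => r • prodSec e₁ e₂ (ofSec f₁ m) (ofSec f₂ n)) (appLE_rho₁ H e₁ a))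
      (fun m n n' => (congrArg (Modules.TensorSec.tens (PullSec.mu p M e₁ (ofSec f₁ m)))
        (map_add (PullSec.mu q N e₂) _ _)).trans (Modules.TensorSec.tens_add_right _ _ _))
      (fun a m n => by
        refine (congrArg (Modules.TensorSec.tens (PullSec.mu p M e₁ (ofSec f₁ m)))
          ((PullSec.mu q N e₂).map_smulₛₗ (rho f₂ W₂ a) (ofSec f₂ n))).trans ?_
        refine (Modules.TensorSec.tens_smul_right _ _ _).trans ?_
        exact congrArg (fun r : Γ(Z, U) => r • prodSec e₁ e₂ (ofSec f₁ m) (ofSec f₂ n)) (appLE_rho₂ H e₂ a))))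

lemma mul_tmul (e₁ : U ≤ p ⁻¹ᵁ W₁) (e₂ : U ≤ q ⁻¹ᵁ W₂) (M : X₁.Modules) (N : X₂.Modules)
    (m : (secA f₁ W₁).obj M) (n : (secA f₂ W₂).obj N) :
    (mul H e₁ e₂ M N).hom (m ⊗ₜ[A] n) =
      toSec (p ≫ f₁) (prodSec e₁ e₂ (ofSec f₁ m) (ofSec f₂ n)) := rfl

/-- The natural map of bifunctors. -/
noncomputable def data (e₁ : U ≤ p ⁻¹ᵁ W₁) (e₂ : U ≤ q ⁻¹ᵁ W₂) :
    BiTotal.MapData (T p q) (curriedTensor (ModuleCat.{u} A)) (secA f₁ W₁) (secA f₂ W₂)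
      (secA (p ≫ f₁) U) where
  app M N := mul H e₁ e₂ M N
  natural₁ {M M'} a N := by
    refine ModuleCat.MonoidalCategory.tensor_ext fun m n => ?_
    refine (congrArg₂ Modules.TensorSec.tens (PullSec.mu_natural p M a e₁ (ofSec f₁ m))
      (rfl : PullSec.mu q N e₂ (ofSec f₂ n) = _)).trans ?_
    refine Eq.trans ?_ (congrArg (fun t => t.app U (prodSec e₁ e₂ (ofSec f₁ m) (ofSec f₂ n)))
      (tensorBi_map_app ((Scheme.Modules.pullback p).map a) ((Scheme.Modules.pullback q).obj N))).symm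
    exact (Modules.TensorSec.tmap_tens ((Scheme.Modules.pullback p).map a) (𝟙 _) _ _).symm
  natural₂ M {N N'} b := by
    refine ModuleCat.MonoidalCategory.tensor_ext fun m n => ?_
    refine (congrArg₂ Modules.TensorSec.tens (rfl : PullSec.mu p M e₁ (ofSec f₁ m) = _)
      (PullSec.mu_natural q N b e₂ (ofSec f₂ n))).trans ?_
    refine Eq.trans ?_ (congrArg (fun t => t.app U (prodSec e₁ e₂ (ofSec f₁ m) (ofSec f₂ n)))
      (tensorBi_obj_map ((Scheme.Modules.pullback p).obj M) ((Scheme.Modules.pullback q).map b))).symm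
    exact (Modules.TensorSec.tmap_tens (𝟙 _) ((Scheme.Modules.pullback q).map b) _ _).symm

lemma mul_res {V₁ : X₁.Opens} {V₂ : X₂.Opens} {U' : Z.Opens} (h₁ : V₁ ≤ W₁) (h₂ : V₂ ≤ W₂)
    (hU : U' ≤ U) (e₁ : U ≤ p ⁻¹ᵁ W₁) (e₂ : U ≤ q ⁻¹ᵁ W₂) (e₁' : U' ≤ p ⁻¹ᵁ V₁) (e₂' : U' ≤ q ⁻¹ᵁ V₂)
    (M : X₁.Modules) (N : X₂.Modules) :
    mul H e₁ e₂ M N ≫ (resA (p ≫ f₁) hU).app (((T p q).obj M).obj N) =
      ((resA f₁ h₁).app M ⊗ₘ (resA f₂ h₂).app N) ≫ mul H e₁' e₂' M N := by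
  refine ModuleCat.MonoidalCategory.tensor_ext fun m n => ?_
  refine (Modules.TensorSec.rs_tens hU (PullSec.mu p M e₁ (ofSec f₁ m))
    (PullSec.mu q N e₂ (ofSec f₂ n))).trans ?_
  exact (congrArg₂ Modules.TensorSec.tens (PullSec.mu_res p M h₁ hU e₁ e₁' (ofSec f₁ m))
    (PullSec.mu_res q N h₂ hU e₂ e₂' (ofSec f₂ n))).symm

set_option maxHeartbeats 2000000 in
/-- On a product of affines the map is bijective. -/
theorem isIso_mul_box (h₁ : IsAffineOpen W₁) (h₂ : IsAffineOpen W₂) (M : X₁.Modules) (N : X₂.Modules)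
    [M.IsQuasicoherent] [N.IsQuasicoherent] :
    IsIso (mul H (inf_le_left : box p q W₁ W₂ ≤ p ⁻¹ᵁ W₁) (inf_le_right : box p q W₁ W₂ ≤ q ⁻¹ᵁ W₂) M N) := by
  have hU := AffPull.isAffineOpen_box H h₁ h₂
  rw [ConcreteCategory.isIso_iff_bijective]
  let U := box p q W₁ W₂
  let e₁ : U ≤ p ⁻¹ᵁ W₁ := inf_le_left
  let e₂ : U ≤ q ⁻¹ᵁ W₂ := inf_le_right
  haveI := QCoh.Pullback.isQCoh_pullback p M
  haveI := QCoh.Pullback.isQCoh_pullback q N
  let P := Γ((Scheme.Modules.pullback p).obj M, U)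
  let Q := Γ((Scheme.Modules.pullback q).obj N, U)
  letI : Algebra A Γ(X₁, W₁) := (rho f₁ W₁).toAlgebra
  letI : Algebra A Γ(X₂, W₂) := (rho f₂ W₂).toAlgebra
  letI : Algebra A Γ(Z, U) := (rho (p ≫ f₁) U).toAlgebra
  letI : Algebra Γ(X₁, W₁) Γ(Z, U) := (p.appLE W₁ U e₁).hom.toAlgebra
  letI : Algebra Γ(X₂, W₂) Γ(Z, U) := (q.appLE W₂ U e₂).hom.toAlgebra
  haveI : IsScalarTower A Γ(X₁, W₁) Γ(Z, U) :=
    IsScalarTower.of_algebraMap_eq fun a => (appLE_rho₁ H e₁ a).symm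
  haveI : IsScalarTower A Γ(X₂, W₂) Γ(Z, U) :=
    IsScalarTower.of_algebraMap_eq fun a => (appLE_rho₂ H e₂ a).symm
  haveI : Algebra.IsPushout A Γ(X₂, W₂) Γ(X₁, W₁) Γ(Z, U) :=
    CommRingCat.isPushout_iff_isPushout.mp (AffPull.isPushout_box H h₁ h₂).flip
  letI : Module A Γ(M, W₁) := Module.compHom _ (rho f₁ W₁)
  haveI : IsScalarTower A Γ(X₁, W₁) Γ(M, W₁) := IsScalarTower.of_algebraMap_smul fun _ _ => rfl
  letI : Module A Γ(N, W₂) := Module.compHom _ (rho f₂ W₂)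
  haveI : IsScalarTower A Γ(X₂, W₂) Γ(N, W₂) := IsScalarTower.of_algebraMap_smul fun _ _ => rfl
  letI : Module Γ(X₁, W₁) P := Module.compHom _ (p.appLE W₁ U e₁).hom
  haveI : IsScalarTower Γ(X₁, W₁) Γ(Z, U) P := IsScalarTower.of_algebraMap_smul fun _ _ => rfl
  letI : Module Γ(X₂, W₂) P := Module.compHom _ (q.appLE W₂ U e₂).hom
  haveI : IsScalarTower Γ(X₂, W₂) Γ(Z, U) P := IsScalarTower.of_algebraMap_smul fun _ _ => rfl
  letI : Module Γ(X₂, W₂) Q := Module.compHom _ (q.appLE W₂ U e₂).hom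
  haveI : IsScalarTower Γ(X₂, W₂) Γ(Z, U) Q := IsScalarTower.of_algebraMap_smul fun _ _ => rfl
  letI : Module A P := Module.compHom _ (rho (p ≫ f₁) U)
  haveI : IsScalarTower A Γ(X₂, W₂) P := IsScalarTower.of_algebraMap_smul fun a m =>
    congrArg (fun r : Γ(Z, U) => r • m) (appLE_rho₂ H e₂ a)
  have hb := PullSec.isBaseChange_mu p M h₁ hU e₁
  have hb₂ := PullSec.isBaseChange_mu q N h₂ hU e₂
  let i₁ : Γ(M, W₁) →ₗ[A] P :=
    { toFun := PullSec.mu p M e₁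
      map_add' := (PullSec.mu p M e₁).map_add'
      map_smul' := fun a m => ((PullSec.mu p M e₁).map_smulₛₗ (rho f₁ W₁ a) m).trans
        (congrArg (fun r : Γ(Z, U) => r • PullSec.mu p M e₁ m) (appLE_rho₁ H e₁ a)) }
  have hi₁ : IsBaseChange Γ(X₂, W₂) i₁ := by
    let d : Γ(X₂, W₂) ⊗[A] Γ(M, W₁) →ₗ[Γ(X₂, W₂)] P := i₁.liftBaseChange Γ(X₂, W₂)
    have hd : ∀ b m, d (b ⊗ₜ m) = q.appLE W₂ U e₂ b • PullSec.mu p M e₁ m := fun b m => rfl
    have hbd : Function.Bijective d := ZarCoh.FlatBC.Main.bijective_of_isPushout (B := Γ(X₂, W₂))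
      (R := Γ(X₁, W₁)) (R' := Γ(Z, U)) hb.equiv.toLinearMap hb.equiv.bijective d.toAddMonoidHom
      fun b m => (hd b m).trans (congrArg (fun t : P => q.appLE W₂ U e₂ b • t)
        ((IsBaseChange.equiv_tmul hb (1 : Γ(Z, U)) m).trans (one_smul _ _)).symm)
    refine IsBaseChange.of_equiv (LinearEquiv.ofBijective d hbd) fun m => ?_
    exact (hd 1 m).trans ((congrArg (fun r : Γ(Z, U) => r • PullSec.mu p M e₁ m)
      (map_one (q.appLE W₂ U e₂).hom)).trans (one_smul _ _))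
  let E₀ : Γ(N, W₂) ⊗[Γ(X₂, W₂)] P ≃ₗ[Γ(X₂, W₂)] Γ(N, W₂) ⊗[A] Γ(M, W₁) := hi₁.tensorEquiv Γ(N, W₂)
  let E₁ : P ⊗[Γ(Z, U)] Q ≃ₗ[Γ(Z, U)] P ⊗[Γ(X₂, W₂)] Γ(N, W₂) := hb₂.tensorEquiv P
  let E₂ : Γ(M, W₁) ⊗[A] Γ(N, W₂) ≃+ Γ(N, W₂) ⊗[Γ(X₂, W₂)] P :=
    (TensorProduct.comm A Γ(M, W₁) Γ(N, W₂)).toAddEquiv.trans E₀.symm.toAddEquiv
  let E : Γ(M, W₁) ⊗[A] Γ(N, W₂) ≃+ P ⊗[Γ(Z, U)] Q :=
    (E₂.trans (TensorProduct.comm Γ(X₂, W₂) Γ(N, W₂) P).toAddEquiv).trans E₁.symm.toAddEquiv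
  have hE : ∀ m n, E (m ⊗ₜ[A] n) = PullSec.mu p M e₁ m ⊗ₜ[Γ(Z, U)] PullSec.mu q N e₂ n := fun m n => by
    have h0 : E₀.symm (n ⊗ₜ[A] m) = n ⊗ₜ[Γ(X₂, W₂)] i₁ m := by
      rw [LinearEquiv.symm_apply_eq]
      simp [E₀, IsBaseChange.tensorEquiv, IsBaseChange.equiv_symm_apply]
    have h1 : E₁.symm (i₁ m ⊗ₜ[Γ(X₂, W₂)] n) = i₁ m ⊗ₜ[Γ(Z, U)] PullSec.mu q N e₂ n := by
      simp only [E₁, IsBaseChange.tensorEquiv, LinearEquiv.trans_symm, LinearEquiv.trans_apply,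
        TensorProduct.AlgebraTensorModule.cancelBaseChange_symm_tmul]
      refine (congrArg (fun z => i₁ m ⊗ₜ[Γ(Z, U)] z) ?_)
      exact (IsBaseChange.equiv_tmul hb₂ (1 : Γ(Z, U)) n).trans (one_smul _ _)
    refine (congrArg (fun z => E₁.symm (TensorProduct.comm Γ(X₂, W₂) Γ(N, W₂) P z)) h0).trans ?_
    exact h1
  have key : ∀ z : Γ(M, W₁) ⊗[A] Γ(N, W₂), (mul H e₁ e₂ M N).hom z =
      Modules.TensorAffine.gamma ((Scheme.Modules.pullback p).obj M) ((Scheme.Modules.pullback q).obj N) U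
        (E z) := by
    intro z
    induction z using TensorProduct.induction_on with
    | zero => exact (map_zero _).trans ((congrArg _ (map_zero E)).trans (map_zero _)).symm
    | tmul m n => rw [hE]; rfl
    | add a b ha hb =>
      exact (map_add _ a b).trans ((congrArg₂ (· + ·) ha hb).trans
        ((congrArg _ (map_add E a b)).trans (map_add _ _ _)).symm)
  have hk : ⇑(mul H e₁ e₂ M N).hom =
      ⇑(Modules.TensorAffine.gamma ((Scheme.Modules.pullback p).obj M) ((Scheme.Modules.pullback q).obj N) U) ∘ ⇑E :=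
    funext key
  show Function.Bijective ⇑(mul H e₁ e₂ M N).hom
  rw [hk]
  exact (Modules.TensorAffine.bijective_gamma hU).comp E.bijective

end Groth.Agent.Lib.CechRes.Pair
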