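import Groth.Agent.Lib.TensorCx.Vanish
import Groth.Agent.Lib.DerivedOX.StalkCx
import Groth.Agent.Lib.DR.BaseChange
import Groth.Agent.Lib.DR.Resolve

/-!
# Quasi-isomorphisms between tensor products of bounded above complexes
-/

set_option autoImplicit false
set_option linter.unusedSectionVars false
set_option linter.style.haveILetI false

universe u

open CategoryTheory Limits MonoidalCategory HomologicalComplex

namespace Groth.Agent.Lib.CechRes.TensorQis

open Groth.Agent.Lib

variable {A : Type u} [CommRing A] {K K' M M' : CochainComplex (ModuleCat.{u} A) ℤ}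

/-- A quasi-isomorphism between bounded above complexes of flat modules stays one after `- ⊗ M`. -/
theorem quasiIso_tensor_left (f : K ⟶ K') [QuasiIso f] (hK : ∀ i, Module.Flat A (K.X i))
    (hK' : ∀ i, Module.Flat A (K'.X i)) (a : ℤ) (ha : ∀ i, a < i → IsZero (K.X i))
    (ha' : ∀ i, a < i → IsZero (K'.X i)) (b : ℤ) (hb : ∀ i, b < i → IsZero (M.X i)) :
    QuasiIso (HomologicalComplex.tensorHom f (𝟙 M)) := by
  obtain ⟨F, s, hF, hFp, hs⟩ := DR.Resolve.exists_resolution DR.Representative.good_free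
    DR.Representative.projective_of_free' (K := M) (b := b)
    (fun i hi => HomologicalComplex.ExactAt.of_isZero (hb i hi))
    (fun n E φ _ _ _ _ => DR.Representative.exists_free_cover' _)
  haveI := hs
  haveI := TensorCx.Vanish.quasiIso_mapR F (fun i => DR.BaseChange.flat_of_free _ (hFp i)) b hF f
  have h1 : QuasiIso (HomologicalComplex.tensorHom f (𝟙 F)) := by
    have e : HomologicalComplex.tensorHom f (𝟙 F) =
        (DerivedOX.StalkCx.commCx K F).hom ≫ HomologicalComplex.tensorHom (𝟙 F) f ≫ (DerivedOX.StalkCx.commCx K' F).inv := by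
      rw [← Category.assoc, Iso.eq_comp_inv]
      exact DerivedOX.StalkCx.commCx_natural f (𝟙 F)
    rw [e]
    infer_instance
  haveI := h1
  haveI := TensorCx.Vanish.quasiIso_mapR K hK a ha s
  haveI := TensorCx.Vanish.quasiIso_mapR K' hK' a ha' s
  haveI : QuasiIso (HomologicalComplex.tensorHom (𝟙 K) s ≫ HomologicalComplex.tensorHom f (𝟙 M)) := by
    have e : HomologicalComplex.tensorHom (𝟙 K) s ≫ HomologicalComplex.tensorHom f (𝟙 M) = HomologicalComplex.tensorHom f (𝟙 F) ≫ HomologicalComplex.tensorHom (𝟙 K') s := by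
      change (𝟙 K ⊗ₘ s) ≫ (f ⊗ₘ 𝟙 M) = (f ⊗ₘ 𝟙 F) ≫ (𝟙 K' ⊗ₘ s)
      simp only [MonoidalCategory.tensorHom_comp_tensorHom, Category.id_comp, Category.comp_id]
    rw [e]
    infer_instance
  exact quasiIso_of_comp_left (HomologicalComplex.tensorHom (𝟙 K) s) _

/-- Quasi-isomorphisms of bounded above complexes, the left ones flat, tensor to a quasi-isomorphism. -/
theorem quasiIso_tensorHom (f : K ⟶ K') [QuasiIso f] (g : M ⟶ M') [QuasiIso g]
    (hK : ∀ i, Module.Flat A (K.X i)) (hK' : ∀ i, Module.Flat A (K'.X i)) (a : ℤ)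
    (ha : ∀ i, a < i → IsZero (K.X i)) (ha' : ∀ i, a < i → IsZero (K'.X i)) (b : ℤ)
    (hb : ∀ i, b < i → IsZero (M.X i)) : QuasiIso (HomologicalComplex.tensorHom f g) := by
  haveI := quasiIso_tensor_left f hK hK' a ha ha' b hb
  haveI := TensorCx.Vanish.quasiIso_mapR K' hK' a ha' g
  have e : HomologicalComplex.tensorHom f g = HomologicalComplex.tensorHom f (𝟙 M) ≫ HomologicalComplex.tensorHom (𝟙 K') g := by
    change (f ⊗ₘ g) = (f ⊗ₘ 𝟙 M) ≫ (𝟙 K' ⊗ₘ g)
    simp only [MonoidalCategory.tensorHom_comp_tensorHom, Category.id_comp, Category.comp_id]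
  rw [e]
  infer_instance

end Groth.Agent.Lib.CechRes.TensorQis
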