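import Groth.Agent.Lib.CechRes.Pair
import Groth.Agent.Lib.CechRes.Cover
import Groth.Agent.Lib.CechRes.TensorQis
import Mathlib.Data.Int.Interval

/-!
# Künneth for resolutions by direct images from affines
-/

set_option autoImplicit false
set_option linter.unusedSectionVars false
set_option linter.style.haveILetI false

universe u

open CategoryTheory Limits AlgebraicGeometry Opposite TopologicalSpace HomologicalComplex
open MonoidalCategory

attribute [local instance] HasDerivedCategory.standard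

namespace Groth.Agent.Lib.CechRes.PairGlobal

open Sec Crit Res Compute AffPull Pair

variable {A : Type u} [CommRing A] {Z X₁ X₂ : Scheme.{u}} {p : Z ⟶ X₁} {q : Z ⟶ X₂}
  {f₁ : X₁ ⟶ Spec (CommRingCat.of A)} {f₂ : X₂ ⟶ Spec (CommRingCat.of A)}
  (H : IsPullback p q f₁ f₂) [IsSeparated f₁] [IsSeparated f₂]

include H in
lemma isSeparated_Z : IsSeparated (p ≫ f₁) :=
  haveI : IsSeparated p := MorphismProperty.of_isPullback H.flip inferInstance
  inferInstance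

include H in
/-- External products of direct images from affines are direct images from products of affines. -/
theorem ap_T {V₁ : X₁.Opens} {V₂ : X₂.Opens} (hV₁ : IsAffineOpen V₁) (hV₂ : IsAffineOpen V₂)
    {M : X₁.Modules} {N : X₂.Modules} [M.IsQuasicoherent] [N.IsQuasicoherent]
    (h₁ : AP V₁ M) (h₂ : AP V₂ N) : AP (box p q V₁ V₂) (((T p q).obj M).obj N) := by
  haveI := isSeparated_Z H
  haveI := Pair.isQCoh_T p q M N
  haveI := Res.isQCoh_E (p ≫ f₁) (AffPull.isAffineOpen_box H hV₁ hV₂) (((T p q).obj M).obj N)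
  refine AffPull.isIso_of_app (M := ((T p q).obj M).obj N)
    (N := (Res.E (box p q V₁ V₂)).obj (((T p q).obj M).obj N))
    ((Res.η (box p q V₁ V₂)).app (((T p q).obj M).obj N)) fun x => ?_
  obtain ⟨W₁, W₂, hW₁, hW₂, hx⟩ := AffPull.exists_box H x
  refine ⟨box p q W₁ W₂, AffPull.isAffineOpen_box H hW₁ hW₂, hx, ?_⟩
  have hWV₁ := Res.isAffineOpen_inf f₁ hW₁ hV₁
  have hWV₂ := Res.isAffineOpen_inf f₂ hW₂ hV₂
  have hle : box p q (W₁ ⊓ V₁) (W₂ ⊓ V₂) ≤ box p q W₁ W₂ :=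
    inf_le_inf (p.preimage_mono inf_le_left) (q.preimage_mono inf_le_left)
  haveI := Pair.isIso_mul_box H hW₁ hW₂ M N
  haveI := Pair.isIso_mul_box H hWV₁ hWV₂ M N
  haveI := Flat.isIso_res_of_ap f₁ (W := W₁) h₁
  haveI := Flat.isIso_res_of_ap f₂ (W := W₂) h₂
  have e := Pair.mul_res H (inf_le_left : W₁ ⊓ V₁ ≤ W₁) (inf_le_left : W₂ ⊓ V₂ ≤ W₂) hle
    (inf_le_left : box p q W₁ W₂ ≤ p ⁻¹ᵁ W₁) (inf_le_right : box p q W₁ W₂ ≤ q ⁻¹ᵁ W₂)
    inf_le_left inf_le_right M N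
  haveI : IsIso (mul H (inf_le_left : box p q W₁ W₂ ≤ p ⁻¹ᵁ W₁) inf_le_right M N ≫
      (resA (p ≫ f₁) hle).app (((T p q).obj M).obj N)) := by
    rw [e]; infer_instance
  haveI : IsIso ((resA (p ≫ f₁) hle).app (((T p q).obj M).obj N)) :=
    IsIso.of_isIso_comp_left (mul H (inf_le_left : box p q W₁ W₂ ≤ p ⁻¹ᵁ W₁) inf_le_right M N) _
  rw [Scheme.Modules.restrictAdjunction_unit_app_app]
  exact (ParaF.ResBij.presheaf_map_bijective_congr (M := ((T p q).obj M).obj N)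
    (show box p q (W₁ ⊓ V₁) (W₂ ⊓ V₂) = _ by
      rw [Res.image_preimage]; ext1; simp [AffPull.box, Set.preimage_inter]; tauto_set) rfl hle _).1
    ((bijective_resA_iff (p ≫ f₁) hle _).1 inferInstance)

variable {S₁ : Set X₁.Opens} {S₂ : Set X₂.Opens}
  (hS₁ : ∀ V ∈ S₁, IsAffineOpen V) (hS₂ : ∀ V ∈ S₂, IsAffineOpen V)

/-- The products of members. -/
abbrev boxes (p : Z ⟶ X₁) (q : Z ⟶ X₂) (S₁ : Set X₁.Opens) (S₂ : Set X₂.Opens) : Set Z.Opens :=
  Set.image2 (box p q) S₁ S₂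

instance additive_T_flip (N : X₂.Modules) : ((T p q).flip.obj N).Additive where
  map_add {M M' a b} := by
    show ((T p q).map (a + b)).app N = _
    rw [(T p q).map_add]
    rfl

include H hS₁ hS₂ in
theorem apSum_T {M : X₁.Modules} {N : X₂.Modules} (hM : APSum S₁ M) (hN : APSum S₂ N) :
    APSum (boxes p q S₁ S₂) (((T p q).obj M).obj N) := by
  induction hM with
  | @single V₁ M hV₁ h₁ hq₁ =>
    induction hN with
    | @single V₂ N hV₂ h₂ hq₂ =>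
      exact .single (Set.mem_image2_of_mem hV₁ hV₂) (ap_T H (hS₁ _ hV₁) (hS₂ _ hV₂) h₁ h₂)
        (Pair.isQCoh_T p q M N)
    | zero h => exact .zero (((T p q).obj M).map_isZero h)
    | @biprod N N' _ _ a b =>
      haveI := preservesBinaryBiproducts_of_preservesBiproducts ((T p q).obj M)
      exact .iso (((T p q).obj M).mapBiprod N N').symm (.biprod a b)
    | iso e _ a => exact .iso (((T p q).obj M).mapIso e) a
  | zero h => exact .zero (((T p q).flip.obj N).map_isZero h)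
  | @biprod M M' _ _ a b =>
    haveI := preservesBinaryBiproducts_of_preservesBiproducts ((T p q).flip.obj N)
    exact .iso (((T p q).flip.obj N).mapBiprod M M').symm (.biprod a b)
  | iso e _ a => exact .iso (((T p q).flip.obj N).mapIso e) a

variable {W₁ : X₁.Opens} {W₂ : X₂.Opens} {U : Z.Opens}

/-- `mul` as a transformation in the first variable. -/
noncomputable def mulLeft (e₁ : U ≤ p ⁻¹ᵁ W₁) (e₂ : U ≤ q ⁻¹ᵁ W₂) (N : X₂.Modules) :
    secA f₁ W₁ ⋙ tensorRight ((secA f₂ W₂).obj N) ⟶ (T p q).flip.obj N ⋙ secA (p ≫ f₁) U where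
  app M := mul H e₁ e₂ M N
  naturality M M' a := (Pair.data H e₁ e₂).natural₁ a N

/-- `mul` as a transformation in the second variable. -/
noncomputable def mulRight (e₁ : U ≤ p ⁻¹ᵁ W₁) (e₂ : U ≤ q ⁻¹ᵁ W₂) (M : X₁.Modules) :
    secA f₂ W₂ ⋙ tensorLeft ((secA f₁ W₁).obj M) ⟶ (T p q).obj M ⋙ secA (p ≫ f₁) U where
  app N := mul H e₁ e₂ M N
  naturality N N' b := (Pair.data H e₁ e₂).natural₂ M b

include H hS₁ hS₂ in
/-- Global sections of external products. -/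
theorem isIso_mul_top {M : X₁.Modules} {N : X₂.Modules} (hM : APSum S₁ M) (hN : APSum S₂ N) :
    IsIso (mul H (W₁ := ⊤) (W₂ := ⊤) (le_top : (⊤ : Z.Opens) ≤ p ⁻¹ᵁ (⊤ : X₁.Opens))
      (le_top : (⊤ : Z.Opens) ≤ q ⁻¹ᵁ (⊤ : X₂.Opens)) M N) := by
  induction hM with
  | @single V₁ M hV₁ h₁ hq₁ =>
    induction hN with
    | @single V₂ N hV₂ h₂ hq₂ =>
      have haff₁ : IsAffineOpen ((⊤ : X₁.Opens) ⊓ V₁) := by rw [top_inf_eq]; exact hS₁ _ hV₁
      have haff₂ : IsAffineOpen ((⊤ : X₂.Opens) ⊓ V₂) := by rw [top_inf_eq]; exact hS₂ _ hV₂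
      haveI := Pair.isIso_mul_box H haff₁ haff₂ M N
      haveI := Flat.isIso_res_of_ap f₁ (W := ⊤) h₁
      haveI := Flat.isIso_res_of_ap f₂ (W := ⊤) h₂
      haveI := isSeparated_Z H
      have hb : box p q ((⊤ : X₁.Opens) ⊓ V₁) ((⊤ : X₂.Opens) ⊓ V₂) = ⊤ ⊓ box p q V₁ V₂ := by
        simp [AffPull.box]
      have hle : box p q ((⊤ : X₁.Opens) ⊓ V₁) ((⊤ : X₂.Opens) ⊓ V₂) ≤ ⊤ := le_top
      haveI : IsIso ((resA (p ≫ f₁) hle).app (((T p q).obj M).obj N)) := by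
        have h' := (bijective_resA_iff (p ≫ f₁) _ _).1
          (Flat.isIso_res_of_ap (p ≫ f₁) (W := ⊤) (ap_T H (hS₁ _ hV₁) (hS₂ _ hV₂) h₁ h₂))
        exact (bijective_resA_iff (p ≫ f₁) hle _).2
          ((ParaF.ResBij.presheaf_map_bijective_congr (M := ((T p q).obj M).obj N) hb rfl hle inf_le_left).2 h')
      have e := Pair.mul_res H (inf_le_left : (⊤ : X₁.Opens) ⊓ V₁ ≤ ⊤)
        (inf_le_left : (⊤ : X₂.Opens) ⊓ V₂ ≤ ⊤) hle (le_top : (⊤ : Z.Opens) ≤ p ⁻¹ᵁ (⊤ : X₁.Opens))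
        (le_top : (⊤ : Z.Opens) ≤ q ⁻¹ᵁ (⊤ : X₂.Opens)) inf_le_left inf_le_right M N
      haveI : IsIso (mul H (W₁ := ⊤) (W₂ := ⊤) (le_top : (⊤ : Z.Opens) ≤ p ⁻¹ᵁ (⊤ : X₁.Opens)) (le_top : (⊤ : Z.Opens) ≤ q ⁻¹ᵁ (⊤ : X₂.Opens)) M N ≫
          (resA (p ≫ f₁) hle).app (((T p q).obj M).obj N)) := by
        rw [e]; infer_instance
      exact IsIso.of_isIso_comp_right _ ((resA (p ≫ f₁) hle).app (((T p q).obj M).obj N))
    | @zero N h =>
      exact ⟨0, ((secA f₂ ⊤ ⋙ tensorLeft ((secA f₁ ⊤).obj M)).map_isZero h).eq_of_src _ _,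
        (((T p q).obj M ⋙ secA (p ≫ f₁) ⊤).map_isZero h).eq_of_src _ _⟩
    | @biprod N N' _ _ a b =>
      let η := mulRight H (W₁ := ⊤) (W₂ := ⊤) (le_top : (⊤ : Z.Opens) ≤ p ⁻¹ᵁ (⊤ : X₁.Opens)) (le_top : (⊤ : Z.Opens) ≤ q ⁻¹ᵁ (⊤ : X₂.Opens)) M
      haveI : IsIso (η.app N) := a
      haveI : IsIso (η.app N') := b
      exact AffPull.isIso_app_biprod η N N'
    | @iso N N' e _ a =>
      exact (NatTrans.isIso_app_iff_of_iso
        (mulRight H (W₁ := ⊤) (W₂ := ⊤) (le_top : (⊤ : Z.Opens) ≤ p ⁻¹ᵁ (⊤ : X₁.Opens)) (le_top : (⊤ : Z.Opens) ≤ q ⁻¹ᵁ (⊤ : X₂.Opens)) M) e).1 a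
  | @zero M h =>
    exact ⟨0, ((secA f₁ ⊤ ⋙ tensorRight ((secA f₂ ⊤).obj N)).map_isZero h).eq_of_src _ _,
      (((T p q).flip.obj N ⋙ secA (p ≫ f₁) ⊤).map_isZero h).eq_of_src _ _⟩
  | @biprod M M' _ _ a b =>
    let η := mulLeft H (W₁ := ⊤) (W₂ := ⊤) (le_top : (⊤ : Z.Opens) ≤ p ⁻¹ᵁ (⊤ : X₁.Opens)) (le_top : (⊤ : Z.Opens) ≤ q ⁻¹ᵁ (⊤ : X₂.Opens)) N
    haveI : IsIso (η.app M) := a
    haveI : IsIso (η.app M') := b
    exact AffPull.isIso_app_biprod η M M'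
  | @iso M M' e _ a =>
    exact (NatTrans.isIso_app_iff_of_iso
      (mulLeft H (W₁ := ⊤) (W₂ := ⊤) (le_top : (⊤ : Z.Opens) ≤ p ⁻¹ᵁ (⊤ : X₁.Opens)) (le_top : (⊤ : Z.Opens) ≤ q ⁻¹ᵁ (⊤ : X₂.Opens)) N) e).1 a

section Total

variable {K : CochainComplex X₁.Modules ℤ} {L : CochainComplex X₂.Modules ℤ} (a b : ℤ)
  (hK : ∀ i, a < i → IsZero (K.X i)) (hL : ∀ i, b < i → IsZero (L.X i))

include hK hL in
lemma finite_summands (n : ℤ) :
    ∃ s : Finset ℤ, ∀ i, i ∉ s → IsZero (BiTotal.summand (T p q) K L n i) := by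
  refine ⟨Finset.Icc (n - b) a, fun i hi => ?_⟩
  rw [Finset.mem_Icc, not_and_or, not_le, not_le] at hi
  rcases hi with hi | hi
  · exact ((T p q).obj (K.X i)).map_isZero (hL _ (by lia))
  · exact ((T p q).flip.obj (L.X (n - i))).map_isZero (hK _ hi)

include hK hL in
lemma prop_total (n : ℤ) (P : Z.Modules → Prop) (h0 : ∀ {M : Z.Modules}, IsZero M → P M)
    (hb : ∀ {M N : Z.Modules}, P M → P N → P (M ⊞ N))
    (hi : ∀ {M N : Z.Modules}, (M ≅ N) → P M → P N)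
    (h : ∀ i j, P (((T p q).obj (K.X i)).obj (L.X j))) :
    P ((mapBifunctor K L (T p q) (.up ℤ)).X n) := by
  obtain ⟨s, hs⟩ := finite_summands (p := p) (q := q) a b hK hL n
  exact BiTotal.prop_term hs P h0 hb hi fun i _ => h _ _

include hK hL in
lemma qc_total (hqK : ∀ i, (K.X i).IsQuasicoherent) (hqL : ∀ i, (L.X i).IsQuasicoherent) (n : ℤ) :
    ((mapBifunctor K L (T p q) (.up ℤ)).X n).IsQuasicoherent :=
  prop_total a b hK hL n (fun M => M.IsQuasicoherent) (fun h => qc_zero _ h)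
    (fun h h' => qc_biprod _ _ h h') (fun e h => (WayOut.Scheme.qc Z).prop_of_iso e h)
    fun i j => haveI := hqK i; haveI := hqL j; Pair.isQCoh_T p q _ _

/-- Sections of a total external product on a product of affines. -/
noncomputable def secBoxIso (h₁ : IsAffineOpen W₁) (h₂ : IsAffineOpen W₂)
    (hqK : ∀ i, (K.X i).IsQuasicoherent) (hqL : ∀ i, (L.X i).IsQuasicoherent) :=
  BiTotal.totalIso K L
    (Pair.data H (inf_le_left : box p q W₁ W₂ ≤ p ⁻¹ᵁ W₁) (inf_le_right : box p q W₁ W₂ ≤ q ⁻¹ᵁ W₂))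
    (finite_summands a b hK hL) (fun i j => haveI := hqK i; haveI := hqL j; Pair.isIso_mul_box H h₁ h₂ _ _)

end Total

include H hS₁ hS₂ in
/-- External products of resolutions compute `RΓ`. -/
theorem computes_kunneth [QuasiCompact f₁] [QuasiCompact f₂] [HTor.HasRΓA (p ≫ f₁)]
    {P₁ : CochainComplex X₁.Modules ℤ} {P₂ : CochainComplex X₂.Modules ℤ}
    (hq₁ : ∀ i, (P₁.X i).IsQuasicoherent) (hq₂ : ∀ i, (P₂.X i).IsQuasicoherent)
    (r₁ : Resolution S₁ P₁) (r₂ : Resolution S₂ P₂) (a b : ℤ)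
    (ha : ∀ i, a < i → IsZero (P₁.X i)) (ha' : ∀ i, a < i → IsZero (r₁.Q.X i))
    (hb : ∀ i, b < i → IsZero (P₂.X i)) (hb' : ∀ i, b < i → IsZero (r₂.Q.X i))
    (hfl : ∀ i, Flat.SecFlat f₁ (P₁.X i)) (hfl' : ∀ i, Flat.SecFlat f₁ (r₁.Q.X i)) :
    HTor.Computes (p ≫ f₁)
      (HTor.tensorCx (((secA f₁ ⊤).mapHomologicalComplex (.up ℤ)).obj r₁.Q)
        (((secA f₂ ⊤).mapHomologicalComplex (.up ℤ)).obj r₂.Q))
      (DCoh.toD Z (mapBifunctor P₁ P₂ (T p q) (.up ℤ))) := by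
  haveI := isSeparated_Z H
  haveI : QuasiCompact p := MorphismProperty.of_isPullback H.flip inferInstance
  have hqQ₁ : ∀ i, (r₁.Q.X i).IsQuasicoherent := fun i => apSum_qc (r₁.apSum i)
  have hqQ₂ : ∀ i, (r₂.Q.X i).IsQuasicoherent := fun i => apSum_qc (r₂.apSum i)
  let φ := mapBifunctorMap r₁.aug r₂.aug (T p q) (.up ℤ)
  have hφ : QuasiIso φ := by
    refine (SpecSeq.AcyclicComplex.quasiIso_iff_acyclic_mappingCone φ).2 ((acyclic_iff_acycOn _).2 ?_)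
    refine acycOn_of_secA (p ≫ f₁) _ (fun n => ?_) _ fun x _ => ?_
    · exact (WayOut.Scheme.qc Z).prop_of_iso
        (HomologicalComplex.homotopyCofiber.XIsoBiprod φ n (n + 1) rfl).symm
        (qc_biprod _ _ (qc_total a b ha hb hq₁ hq₂ _) (qc_total a b ha' hb' hqQ₁ hqQ₂ _))
    obtain ⟨W₁, W₂, hW₁, hW₂, hx⟩ := AffPull.exists_box H x
    refine ⟨box p q W₁ W₂, AffPull.isAffineOpen_box H hW₁ hW₂, hx, fun n => ?_⟩
    let G := secA (p ≫ f₁) (box p q W₁ W₂)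
    have hG : QuasiIso ((G.mapHomologicalComplex (.up ℤ)).map φ) := by
      haveI h₁ : QuasiIso (((secA f₁ W₁).mapHomologicalComplex (.up ℤ)).map r₁.aug) := by
        refine (SpecSeq.AcyclicComplex.quasiIso_iff_acyclic_mappingCone _).2 fun n => ?_
        refine ExactAt.of_iso ?_ (CochainComplex.mappingCone.mapHomologicalComplexIso r₁.aug (secA f₁ W₁))
        exact (acyclic_secA_iff f₁ _ (fun m => (WayOut.Scheme.qc X₁).prop_of_iso
          (HomologicalComplex.homotopyCofiber.XIsoBiprod r₁.aug m (m + 1) rfl).symm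
          (qc_biprod _ _ (hq₁ _) (hqQ₁ _))) hW₁).2
          (((acyclic_iff_acycOn _).1 ((SpecSeq.AcyclicComplex.quasiIso_iff_acyclic_mappingCone _).1 r₁.qis)).mono
            (Set.subset_univ _)) n
      haveI h₂ : QuasiIso (((secA f₂ W₂).mapHomologicalComplex (.up ℤ)).map r₂.aug) := by
        refine (SpecSeq.AcyclicComplex.quasiIso_iff_acyclic_mappingCone _).2 fun n => ?_
        refine ExactAt.of_iso ?_ (CochainComplex.mappingCone.mapHomologicalComplexIso r₂.aug (secA f₂ W₂))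
        exact (acyclic_secA_iff f₂ _ (fun m => (WayOut.Scheme.qc X₂).prop_of_iso
          (HomologicalComplex.homotopyCofiber.XIsoBiprod r₂.aug m (m + 1) rfl).symm
          (qc_biprod _ _ (hq₂ _) (hqQ₂ _))) hW₂).2
          (((acyclic_iff_acycOn _).1 ((SpecSeq.AcyclicComplex.quasiIso_iff_acyclic_mappingCone _).1 r₂.qis)).mono
            (Set.subset_univ _)) n
      let θ := Pair.data H (inf_le_left : box p q W₁ W₂ ≤ p ⁻¹ᵁ W₁) (inf_le_right : box p q W₁ W₂ ≤ q ⁻¹ᵁ W₂)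
      let e := secBoxIso H a b ha hb hW₁ hW₂ hq₁ hq₂
      let e' := secBoxIso H a b ha' hb' hW₁ hW₂ hqQ₁ hqQ₂
      haveI := TensorQis.quasiIso_tensorHom (((secA f₁ W₁).mapHomologicalComplex (.up ℤ)).map r₁.aug)
        (((secA f₂ W₂).mapHomologicalComplex (.up ℤ)).map r₂.aug) (fun i => hfl i W₁ hW₁)
        (fun i => hfl' i W₁ hW₁) a (fun i hi => (secA f₁ W₁).map_isZero (ha i hi))
        (fun i hi => (secA f₁ W₁).map_isZero (ha' i hi)) b (fun i hi => (secA f₂ W₂).map_isZero (hb i hi))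
      have hn := BiTotal.totalMap_natural θ r₁.aug r₂.aug
      have e0 : (G.mapHomologicalComplex (.up ℤ)).map φ = e.inv ≫ HomologicalComplex.tensorHom
          (((secA f₁ W₁).mapHomologicalComplex (.up ℤ)).map r₁.aug)
          (((secA f₂ W₂).mapHomologicalComplex (.up ℤ)).map r₂.aug) ≫ e'.hom :=
        (Iso.eq_inv_comp e).2 hn.symm
      rw [e0]
      infer_instance
    exact ((SpecSeq.AcyclicComplex.quasiIso_iff_acyclic_mappingCone _).1 hG n).of_iso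
      (CochainComplex.mappingCone.mapHomologicalComplexIso φ G).symm
  let r : Resolution (boxes p q S₁ S₂) (mapBifunctor P₁ P₂ (T p q) (.up ℤ)) :=
    { Q := mapBifunctor r₁.Q r₂.Q (T p q) (.up ℤ)
      aug := φ
      qis := hφ
      apSum := fun n => prop_total a b ha' hb' n (APSum (boxes p q S₁ S₂)) (fun h => .zero h)
        (fun h h' => .biprod h h') (fun e h => .iso e h) fun i j => apSum_T H hS₁ hS₂ (r₁.apSum i) (r₂.apSum j) }
  obtain ⟨ec⟩ := r.computes (p ≫ f₁) (by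
    rintro _ ⟨V₁, h₁, V₂, h₂, rfl⟩
    exact AffPull.isAffineOpen_box H (hS₁ _ h₁) (hS₂ _ h₂))
  refine ⟨DerivedCategory.Q.mapIso (BiTotal.totalIso r₁.Q r₂.Q
    (Pair.data H (W₁ := ⊤) (W₂ := ⊤) (le_top : (⊤ : Z.Opens) ≤ p ⁻¹ᵁ (⊤ : X₁.Opens)) (le_top : (⊤ : Z.Opens) ≤ q ⁻¹ᵁ (⊤ : X₂.Opens)))
    (finite_summands a b ha' hb') (fun i j => isIso_mul_top H hS₁ hS₂ (r₁.apSum i) (r₂.apSum j))) ≪≫ ec⟩

end Groth.Agent.Lib.CechRes.PairGlobal
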