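import Groth.Agent.Lib.CechRes.Crit
import Groth.Agent.Lib.QCoh.Pushforward
import Mathlib.Algebra.Homology.HomotopyCategory.MappingCocone
import Mathlib.Algebra.Homology.DerivedCategory.KProjective
import Groth.Agent.Lib.SpecSeq.AcyclicComplex

/-!
# Resolutions by direct images from affine opens

Starting from a complex `R`, iterate `C ↦ cocone (C ⟶ j_* j^* C)` over the members of an affine cover.
The result is an acyclic complex `C` with a degreewise split epimorphism `π : C ⟶ R`, whose kernel has
terms finite sums of direct images from the members of the cover.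
-/

set_option autoImplicit false
set_option linter.unusedSectionVars false
set_option linter.style.haveILetI false
set_option linter.dupNamespace false

universe u

set_option maxHeartbeats 800000

open CategoryTheory Limits AlgebraicGeometry Opposite TopologicalSpace HomologicalComplex
open CochainComplex ZeroObject

namespace Groth.Agent.Lib.CechRes.Res

open Sec Crit

variable {A : Type u} [CommRing A] {X : Scheme.{u}}

/-- `M ↦ j_* j^* M` for an open `V`. -/
noncomputable abbrev E (V : X.Opens) : X.Modules ⥤ X.Modules :=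
  Scheme.Modules.restrictFunctor V.ι ⋙ Scheme.Modules.pushforward V.ι

/-- The unit. -/
noncomputable abbrev η (V : X.Opens) : 𝟭 X.Modules ⟶ E V :=
  (Scheme.Modules.restrictAdjunction V.ι).unit

instance restrictFunctor_additive {Y : Scheme.{u}} (j : Y ⟶ X) [IsOpenImmersion j] :
    (Scheme.Modules.restrictFunctor j).Additive :=
  (Scheme.Modules.restrictAdjunction j).left_adjoint_additive

instance E_additive (V : X.Opens) : (E V).Additive := inferInstance

/-- `M` is the direct image of its restriction to `V`. -/
abbrev AP (V : X.Opens) (M : X.Modules) : Prop := IsIso ((η V).app M)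

lemma ap_E (V : X.Opens) (M : X.Modules) : AP V ((E V).obj M) := by
  have h := (Scheme.Modules.restrictAdjunction V.ι).right_triangle_components
    ((Scheme.Modules.restrictFunctor V.ι).obj M)
  exact ⟨(Scheme.Modules.pushforward V.ι).map
    ((Scheme.Modules.restrictAdjunction V.ι).counit.app _), h,
    (IsIso.eq_inv_of_inv_hom_id (f := (Scheme.Modules.pushforward V.ι).map
      ((Scheme.Modules.restrictAdjunction V.ι).counit.app ((Scheme.Modules.restrictFunctor V.ι).obj M))) h) ▸
      IsIso.hom_inv_id _⟩

lemma image_preimage (V W : X.Opens) : V.ι ''ᵁ (V.ι ⁻¹ᵁ W) = W ⊓ V := by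
  rw [Scheme.Hom.image_preimage_eq_opensRange_inf, Scheme.Opens.opensRange_ι, inf_comm]

lemma isIso_app_of_le {V W : X.Opens} (h : W ≤ V) (M : X.Modules) :
    IsIso (((η V).app M).app W) := by
  rw [Scheme.Modules.restrictAdjunction_unit_app_app]
  have e : V.ι ''ᵁ (V.ι ⁻¹ᵁ W) = W := (image_preimage V W).trans (inf_eq_left.2 h)
  haveI : IsIso (homOfLE (V.ι.image_preimage_le W)) := by
    rw [Subsingleton.elim (homOfLE (V.ι.image_preimage_le W)) (eqToHom e)]
    infer_instance
  exact Functor.map_isIso M.presheaf (homOfLE (V.ι.image_preimage_le W)).op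

/-- Sections of `j_* j^* M`. -/
noncomputable def secE (f : X ⟶ Spec (CommRingCat.of A)) (V W : X.Opens) :
    E V ⋙ secA f W ≅ secA f (W ⊓ V) :=
  NatIso.ofComponents (fun M => @asIso _ _ _ _
      (ModuleCat.ofHom (X := ((secA f W).obj ((E V).obj M) : Type u)) (Y := ((secA f (W ⊓ V)).obj M : Type u))
        { toFun := fun m => toSec f (M.presheaf.map (eqToHom (image_preimage V W).symm).op
            (show Γ(M, V.ι ''ᵁ (V.ι ⁻¹ᵁ W)) from m))
          map_add' := fun a b => map_add _ _ _
          map_smul' := fun a m => by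
            have hr : (V.ι.app W ≫ (V.ι.appIso (V.ι ⁻¹ᵁ W)).inv) (rho f W a) =
                rho f (V.ι ''ᵁ (V.ι ⁻¹ᵁ W)) a := by
              rw [Scheme.Hom.app_appIso_inv]
              exact rho_res f (V.ι.image_preimage_le W) a
            change M.presheaf.map (eqToHom (image_preimage V W).symm).op
              ((V.ι.app W ≫ (V.ι.appIso (V.ι ⁻¹ᵁ W)).inv) (rho f W a) •
                (show Γ(M, V.ι ''ᵁ (V.ι ⁻¹ᵁ W)) from m)) = _
            rw [Scheme.Modules.map_smul, hr,
              Subsingleton.elim (eqToHom (image_preimage V W).symm) (homOfLE (image_preimage V W).ge),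
              rho_res f (image_preimage V W).ge a]
            rfl })
      ((ConcreteCategory.isIso_iff_bijective _).2
        ((ConcreteCategory.isIso_iff_bijective
          (M.presheaf.map (eqToHom (image_preimage V W).symm).op)).1 inferInstance)))
    (fun φ => ModuleCat.hom_ext (LinearMap.ext fun m =>
      (ConcreteCategory.congr_hom (φ.mapPresheaf.naturality (eqToHom (image_preimage V W).symm).op) m).symm))

/-- A morphism bijective on all small opens is bijective on a stalk. -/
lemma bijective_stalk_of_app {M N : X.Modules} (φ : M ⟶ N) {V : X.Opens} {x : X} (hx : x ∈ V)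
    (h : ∀ W : X.Opens, W ≤ V → Function.Bijective (φ.app W)) :
    Function.Bijective ((Modules.Stalk.stalkFunctor X x).map φ) := by
  have nat : ∀ {U W : X.Opens} (i : W ⟶ U) (s : Γ(M, U)),
      φ.app W (M.presheaf.map i.op s) = N.presheaf.map i.op (φ.app U s) := fun i s =>
    ConcreteCategory.congr_hom (φ.mapPresheaf.naturality i.op) s
  constructor
  · refine (injective_iff_map_eq_zero _).2 fun a ha => ?_
    obtain ⟨U, hxU, s, rfl⟩ := TopCat.Presheaf.exists_germ_eq M.presheaf a
    replace ha := (Modules.Stalk.stalkFunctor_map_germ x φ hxU s).symm.trans ha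
    obtain ⟨W, hxW, i, i', hW⟩ := TopCat.Presheaf.germ_eq N.presheaf x hxU hxU (φ.app U s) 0
      (ha.trans (map_zero _).symm)
    rw [map_zero] at hW
    let j : W ⊓ V ⟶ W := homOfLE inf_le_left
    have h0 : φ.app (W ⊓ V) (M.presheaf.map j.op (M.presheaf.map i.op s)) = 0 := by
      rw [nat j, nat i, hW, map_zero]
    have h2 := (h _ inf_le_right).1 (h0.trans (map_zero _).symm)
    rw [← TopCat.Presheaf.germ_res_apply M.presheaf i x hxW s,
      ← TopCat.Presheaf.germ_res_apply M.presheaf j x (show x ∈ W ⊓ V from ⟨hxW, hx⟩)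
        (M.presheaf.map i.op s), h2]
    exact map_zero _
  · intro b
    obtain ⟨U, hxU, t, rfl⟩ := TopCat.Presheaf.exists_germ_eq N.presheaf b
    let j : U ⊓ V ⟶ U := homOfLE inf_le_left
    obtain ⟨s, hs⟩ := (h _ inf_le_right).2 (N.presheaf.map j.op t)
    refine ⟨M.presheaf.germ (U ⊓ V) x ⟨hxU, hx⟩ s, ?_⟩
    refine (Modules.Stalk.stalkFunctor_map_germ x φ (U := U ⊓ V) ⟨hxU, hx⟩ s).trans ?_
    rw [hs]
    exact TopCat.Presheaf.germ_res_apply N.presheaf j x ⟨hxU, hx⟩ t

/-- The unit is an isomorphism on stalks at points of `V`. -/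
lemma bijective_stalk_η {V : X.Opens} {x : X} (hx : x ∈ V) (M : X.Modules) :
    Function.Bijective ((Modules.Stalk.stalkFunctor X x).map ((η V).app M)) :=
  bijective_stalk_of_app ((η V).app M) hx fun _ h =>
    (ConcreteCategory.isIso_iff_bijective _).1 (isIso_app_of_le h M)

section Step

variable {R : CochainComplex X.Modules ℤ}

/-- A complex mapping to `R`, degreewise split with the indicated kernels. -/
structure Res (R : CochainComplex X.Modules ℤ) where
  /-- The complex. -/
  C : CochainComplex X.Modules ℤ
  /-- The map to `R`. -/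
  π : C ⟶ R
  /-- The kernels. -/
  T : ℤ → X.Modules
  /-- The inclusion of the kernels. -/
  i : ∀ n, T n ⟶ C.X n
  w : ∀ n, i n ≫ π.f n = 0
  /-- The splitting. -/
  split : ∀ n, (ShortComplex.mk (i n) (π.f n) (w n)).Splitting

/-- The trivial start. -/
noncomputable def start (R : CochainComplex X.Modules ℤ) : Res R where
  C := R
  π := 𝟙 R
  T _ := 0
  i _ := 0
  w _ := zero_comp
  split _ :=
    { r := 0
      s := 𝟙 _
      f_r := (Limits.isZero_zero X.Modules).eq_of_src _ _
      s_g := by simp
      id := by simp }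

variable (V : X.Opens) (r : Res R)

/-- `C ⟶ j_* j^* C`. -/
noncomputable abbrev unitCx (C : CochainComplex X.Modules ℤ) :
    C ⟶ ((E V).mapHomologicalComplex (.up ℤ)).obj C where
  f n := (η V).app (C.X n)
  comm' p q _ := ((η V).naturality (C.d p q)).symm

/-- One step. -/
noncomputable def step : Res R where
  C := mappingCocone (unitCx V r.C)
  π := mappingCocone.fst _ ≫ r.π
  T n := r.T n ⊞ (((E V).mapHomologicalComplex (.up ℤ)).obj r.C).X (n - 1)
  i n := biprod.desc (r.i n ≫ (mappingCocone.inl (unitCx V r.C)).v n n (add_zero n))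
    ((mappingCocone.inr (unitCx V r.C)).1.v (n - 1) n (by lia))
  w n := by
    apply biprod.hom_ext'
    · simp [r.w n]
    · rw [biprod.inr_desc_assoc, comp_zero, HomologicalComplex.comp_f,
        mappingCocone.inr_v_fst_f_assoc, zero_comp]
  split n :=
    { r := biprod.lift ((mappingCocone.fst (unitCx V r.C)).f n ≫ (r.split n).r)
        ((mappingCocone.snd (unitCx V r.C)).v n (n - 1) (by lia))
      s := (r.split n).s ≫ (mappingCocone.inl (unitCx V r.C)).v n n (add_zero n)
      f_r := by
        have h1 := (r.split n).f_r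
        dsimp only at h1 ⊢
        apply biprod.hom_ext' <;> apply biprod.hom_ext
        · rw [biprod.inl_desc_assoc, Category.assoc, Category.assoc, biprod.lift_fst,
            mappingCocone.inl_v_fst_f_assoc, h1, Category.comp_id, biprod.inl_fst]
        · rw [biprod.inl_desc_assoc, Category.assoc, Category.assoc, biprod.lift_snd,
            mappingCocone.inl_v_snd_v, comp_zero, Category.comp_id, biprod.inl_snd]
        · rw [biprod.inr_desc_assoc, Category.assoc, biprod.lift_fst,
            mappingCocone.inr_v_fst_f_assoc, zero_comp, Category.comp_id, biprod.inr_fst]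
        · rw [biprod.inr_desc_assoc, Category.assoc, biprod.lift_snd,
            mappingCocone.inr_v_snd_v, Category.comp_id, biprod.inr_snd]
      s_g := by simp [(r.split n).s_g]
      id := by
        dsimp
        rw [biprod.lift_desc, ← mappingCocone.id_X (unitCx V r.C) n (n - 1) (by lia)]
        have h := (r.split n).id
        dsimp at h
        conv_rhs => rw [← Category.comp_id ((mappingCocone.fst (unitCx V r.C)).f n), ← h]
        simp only [Preadditive.comp_add, Preadditive.add_comp, Category.assoc]
        exact add_right_comm _ _ _ }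

/-- The iterated construction. -/
noncomputable def res : List X.Opens → (R : CochainComplex X.Modules ℤ) → Res R
  | [], R => start R
  | V :: l, R => step V (res l R)

/-- The kernel terms are built from `R` and the functors `E V`. -/
theorem Res.prop_C (P : ObjectProperty X.Modules) [P.IsClosedUnderIsomorphisms]
    (hb : ∀ M N, P M → P N → P (M ⊞ N)) (n : ℤ) (hT : P (r.T n)) (hR : P (R.X n)) :
    P (r.C.X n) := by
  let s := r.split n
  refine P.prop_of_iso
    ⟨biprod.desc (r.i n) s.s, biprod.lift s.r (r.π.f n), ?_, ?_⟩ (hb _ _ hT hR)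
  · have h1 := s.f_r
    have h2 := s.s_g
    have h3 := s.s_r
    have h4 := r.w n
    apply biprod.hom_ext' <;> apply biprod.hom_ext <;> simp at * <;> simp [*]
  · simpa [biprod.lift_desc] using s.id

end Step

theorem prop_res (P : ObjectProperty X.Modules) [P.IsClosedUnderIsomorphisms]
    (hb : ∀ M N, P M → P N → P (M ⊞ N)) (h0 : ∀ M, IsZero M → P M) (l : List X.Opens)
    (hE : ∀ V ∈ l, ∀ M, P M → P ((E V).obj M)) (R : CochainComplex X.Modules ℤ)
    (hR : ∀ n, P (R.X n)) (n : ℤ) : P ((res l R).T n) := by
  induction l generalizing n with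
  | nil => exact h0 _ (Limits.isZero_zero X.Modules)
  | cons V l ih =>
    have hl : ∀ W ∈ l, ∀ M, P M → P ((E W).obj M) := fun W hW => hE W (List.mem_cons_of_mem _ hW)
    exact hb _ _ (ih hl n) (hE V List.mem_cons_self _
      ((res l R).prop_C P hb _ (ih hl _) (hR _)))

theorem isZero_res (l : List X.Opens) (R : CochainComplex X.Modules ℤ) (n : ℤ)
    (hR : ∀ j, n - l.length ≤ j → j < n → IsZero (R.X j)) : IsZero ((res l R).T n) := by
  induction l generalizing n with
  | nil => exact Limits.isZero_zero X.Modules
  | cons V l ih =>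
    simp only [List.length_cons, Nat.cast_add, Nat.cast_one] at hR
    refine (biprod_isZero_iff _ _).2 ⟨ih n fun j h h' => hR j (by lia) h', (E V).map_isZero ?_⟩
    haveI : ObjectProperty.IsClosedUnderIsomorphisms (IsZero : ObjectProperty X.Modules) :=
      ⟨fun e h => h.of_iso e.symm⟩
    refine (res l R).prop_C (IsZero : ObjectProperty X.Modules) (fun M N hM hN => (biprod_isZero_iff _ _).2 ⟨hM, hN⟩)
      (n - 1) (ih _ fun j h h' => hR j (by lia) (by lia)) (hR _ (by lia) (by lia))

/-- Finite sums of direct images of quasi-coherent modules from members of `S`. -/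
inductive APSum (S : Set X.Opens) : X.Modules → Prop
  | single {V : X.Opens} {M : X.Modules} (hV : V ∈ S) (h : AP V M) (hq : M.IsQuasicoherent) : APSum S M
  | zero {M : X.Modules} (h : IsZero M) : APSum S M
  | biprod {M N : X.Modules} (hM : APSum S M) (hN : APSum S N) : APSum S (M ⊞ N)
  | iso {M N : X.Modules} (e : M ≅ N) (hM : APSum S M) : APSum S N

lemma APSum.mono {S S' : Set X.Opens} (h : S ⊆ S') {M : X.Modules} (hM : APSum S M) : APSum S' M := by
  induction hM with
  | single hV h' hq => exact .single (h hV) h' hq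
  | zero h' => exact .zero h'
  | biprod _ _ a b => exact .biprod a b
  | iso e _ a => exact .iso e a

section Sep

variable (f : X ⟶ Spec (CommRingCat.of A)) [IsSeparated f]

include f in
lemma isAffineOpen_inf {U V : X.Opens} (hU : IsAffineOpen U) (hV : IsAffineOpen V) :
    IsAffineOpen (U ⊓ V) := by
  haveI : X.IsSeparated := ⟨(terminal.hom_ext (f ≫ terminal.from _) (terminal.from X)) ▸
    (inferInstanceAs (IsSeparated (f ≫ terminal.from _)))⟩
  exact hU.inf hV

include f in
lemma isAffineHom_ι {V : X.Opens} (hV : IsAffineOpen V) : IsAffineHom V.ι := ⟨fun W hW => by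
  refine (V.ι.isAffineOpen_iff_of_isOpenImmersion).1 ?_
  rw [image_preimage]
  exact isAffineOpen_inf f hW hV⟩

include f in
lemma isQCoh_E {V : X.Opens} (hV : IsAffineOpen V) (M : X.Modules) [M.IsQuasicoherent] :
    ((E V).obj M).IsQuasicoherent :=
  haveI := isAffineHom_ι f hV
  haveI : (M.restrict V.ι).IsQuasicoherent := inferInstance
  QCoh.Pushforward.isQCoh_pushforward V.ι (M := M.restrict V.ι)

instance qc_iso : (WayOut.Scheme.qc X).IsClosedUnderIsomorphisms := inferInstance

lemma qc_biprod (M N : X.Modules) (hM : M.IsQuasicoherent) (hN : N.IsQuasicoherent) :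
    (M ⊞ N).IsQuasicoherent := by
  refine QCoh.Closure.isQCoh_of_isColimit (BinaryBiproduct.isColimit M N) fun j => ?_
  rcases j with ⟨_ | _⟩
  exacts [hM, hN]

lemma qc_zero (M : X.Modules) (hM : IsZero M) : M.IsQuasicoherent :=
  QCoh.Closure.isQCoh_of_isColimit (J := Discrete PEmpty.{1}) (F := Functor.empty X.Modules)
    (c := asEmptyCocone M) hM.isInitial fun j => j.as.elim

include f in
theorem qc_res (l : List X.Opens) (hl : ∀ V ∈ l, IsAffineOpen V) (R : CochainComplex X.Modules ℤ)
    (hR : ∀ n, (R.X n).IsQuasicoherent) (n : ℤ) :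
    ((res l R).T n).IsQuasicoherent ∧ ((res l R).C.X n).IsQuasicoherent := by
  have h : ∀ m, ((res l R).T m).IsQuasicoherent := prop_res (WayOut.Scheme.qc X) qc_biprod qc_zero l
    (fun V hV M (hM : M.IsQuasicoherent) => isQCoh_E f (hl V hV) M) R hR
  exact ⟨h n, (res l R).prop_C (WayOut.Scheme.qc X) qc_biprod n (h n) (hR n)⟩

include f in
theorem apSum_res (l : List X.Opens) (hl : ∀ V ∈ l, IsAffineOpen V) (R : CochainComplex X.Modules ℤ)
    (hR : ∀ n, (R.X n).IsQuasicoherent) (n : ℤ) : APSum {V | V ∈ l} ((res l R).T n) := by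
  induction l generalizing n with
  | nil => exact .zero (Limits.isZero_zero X.Modules)
  | cons V l ih =>
    have hl' : ∀ W ∈ l, IsAffineOpen W := fun W hW => hl W (List.mem_cons_of_mem _ hW)
    refine .biprod ((ih hl' n).mono fun W hW => List.mem_cons_of_mem _ hW)
      (.single (V := V) List.mem_cons_self (ap_E V _) ?_)
    haveI := (qc_res f l hl' R hR (n - 1)).2
    exact isQCoh_E f (hl V List.mem_cons_self) _

lemma acyclic_shift {C : Type*} [Category C] [Abelian C] (K : CochainComplex C ℤ) (a : ℤ)
    (h : K.Acyclic) : (K⟦a⟧).Acyclic := fun n =>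
  (exactAt_iff_isZero_homology _ _).2 ((h (n + a)).isZero_homology.of_iso
    (((HomologicalComplex.homologyFunctor C (.up ℤ) 0).shiftIso a n (n + a) (by lia)).app K))

include f in
lemma acycOn_E {V : X.Opens} (hV : IsAffineOpen V) {K : CochainComplex X.Modules ℤ}
    (hK : ∀ n, (K.X n).IsQuasicoherent) {O : X.Opens} (h : AcycOn K (O : Set X)) :
    AcycOn (((E V).mapHomologicalComplex (.up ℤ)).obj K) (O : Set X) := by
  refine acycOn_of_secA f _ (fun n => haveI := hK n; isQCoh_E f hV _) _ fun x hx => ?_
  obtain ⟨W, hW, hxW, hWO⟩ := exists_isAffineOpen_mem_and_subset (U := O) (x := x) hx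
  refine ⟨W, hW, hxW, fun n => ?_⟩
  have h' := (acyclic_secA_iff f K hK (isAffineOpen_inf f hW hV)).2
    (h.mono (fun y hy => hWO hy.1)) n
  exact ShortComplex.exact_of_iso ((K.sc n).mapNatIso (secE f V W)).symm h'

include f in
theorem acycOn_step {V : X.Opens} (hV : IsAffineOpen V) {R : CochainComplex X.Modules ℤ} (r : Res R)
    (hC : ∀ n, (r.C.X n).IsQuasicoherent) {O : X.Opens} (h : AcycOn r.C (O : Set X)) :
    AcycOn (step V r).C ((O ⊔ V : X.Opens) : Set X) := by
  intro x hx
  let F := Modules.Stalk.stalkFunctor X x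
  let φ := (F.mapHomologicalComplex (.up ℤ)).map (unitCx V r.C)
  have hq : QuasiIso φ := by
    rcases (show x ∈ O ∨ x ∈ V from hx) with hO | hV'
    · have h1 := h x hO
      have h2 := acycOn_E f hV hC h x hO
      exact ⟨fun n => (quasiIsoAt_iff_exactAt φ n (h1 n)).2 (h2 n)⟩
    · haveI : ∀ n, IsIso (φ.f n) := fun n =>
        (ConcreteCategory.isIso_iff_bijective _).2 (bijective_stalk_η hV' (r.C.X n))
      haveI : IsIso φ := HomologicalComplex.Hom.isIso_of_components φ
      infer_instance
  have hcone : ((F.mapHomologicalComplex (.up ℤ)).obj (mappingCone (unitCx V r.C))).Acyclic :=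
    fun n => ((SpecSeq.AcyclicComplex.quasiIso_iff_acyclic_mappingCone φ).1 hq n).of_iso
      (mappingCone.mapHomologicalComplexIso (unitCx V r.C) F).symm
  exact fun n => ((acyclic_shift _ (-1) hcone) n).of_iso
    (((F.mapHomologicalComplex (.up ℤ)).commShiftIso (-1 : ℤ)).app _).symm

include f in
theorem acycOn_res (l : List X.Opens) (hl : ∀ V ∈ l, IsAffineOpen V) (R : CochainComplex X.Modules ℤ)
    (hR : ∀ n, (R.X n).IsQuasicoherent) :
    AcycOn (res l R).C {x | ∃ V ∈ l, x ∈ V} := by
  induction l with
  | nil => rintro x ⟨V, hV, -⟩; simp at hV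
  | cons V l ih =>
    have hl' : ∀ W ∈ l, IsAffineOpen W := fun W hW => hl W (List.mem_cons_of_mem _ hW)
    have h := acycOn_step f (hl V List.mem_cons_self) (res l R) (fun n => (qc_res f l hl' R hR n).2)
      (O := ⨆ W ∈ l, W) ((ih hl').mono fun y hy => by simpa using hy)
    refine h.mono fun y ⟨W, hW, hyW⟩ => ?_
    rcases List.mem_cons.1 hW with rfl | hW
    · exact Or.inr hyW
    · exact Or.inl (by simpa using ⟨W, hW, hyW⟩)

end Sep

end Groth.Agent.Lib.CechRes.Res
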