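import Groth.Agent.Lib.CechRes.Compute

/-!
# The trivial resolution over an affine base
-/

set_option autoImplicit false
set_option linter.unusedSectionVars false
set_option linter.style.haveILetI false

universe u

open CategoryTheory Limits AlgebraicGeometry Opposite TopologicalSpace

namespace Groth.Agent.Lib.CechRes.SpecBase

open Sec Crit Res Compute

variable {A : Type u} [CommRing A]

/-- Every module is the direct image of its restriction to the whole space. -/
theorem ap_top {X : Scheme.{u}} (M : X.Modules) : AP (⊤ : X.Opens) M := by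
  exact (Modules.StalkModule.isIso_iff_stalkMapₗ_bijective _).2
    fun x => bijective_stalk_η (V := ⊤) (x := x) trivial M

/-- A complex of quasi-coherent modules resolved by itself. -/
noncomputable def idResolution {X : Scheme.{u}} (P : CochainComplex X.Modules ℤ)
    (hP : ∀ n, (P.X n).IsQuasicoherent) : Resolution ({⊤} : Set X.Opens) P where
  Q := P
  aug := 𝟙 P
  qis := inferInstance
  apSum n := .single rfl (ap_top _) (hP n)

lemma rho_id (a : A) :
    rho (𝟙 (Spec (CommRingCat.of A))) ⊤ a = (Scheme.ΓSpecIso (CommRingCat.of A)).inv a := by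
  have h : (𝟙 (Spec (CommRingCat.of A)) : _ ⟶ _).appLE ⊤ ⊤ le_top = 𝟙 _ :=
    (Scheme.Hom.app_eq_appLE (𝟙 (Spec (CommRingCat.of A))) (U := ⊤)).symm.trans rfl
  simp only [rho, CommRingCat.hom_comp, RingHom.comp_apply]
  exact ConcreteCategory.congr_hom h _

/-- On `Spec A` sections over the whole space are Mathlib's global sections. -/
noncomputable def secTopIso :
    secA (𝟙 (Spec (CommRingCat.of A))) ⊤ ≅ moduleSpecΓFunctor (R := CommRingCat.of A) :=
  NatIso.ofComponents (fun M => LinearEquiv.toModuleIso
    (X₁ := ((secA (𝟙 (Spec (CommRingCat.of A))) ⊤).obj M : Type u))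
    (X₂ := ((moduleSpecΓFunctor (R := CommRingCat.of A)).obj M : Type u))
    (m₁ := ((secA (𝟙 (Spec (CommRingCat.of A))) ⊤).obj M).isModule)
    (m₂ := ((moduleSpecΓFunctor (R := CommRingCat.of A)).obj M).isModule)
    { toFun := fun m => m
      invFun := fun m => m
      map_add' := fun _ _ => rfl
      map_smul' := fun a m => by
        refine congrArg (fun r : Γ(Spec (CommRingCat.of A), ⊤) =>
          r • ofSec (𝟙 (Spec (CommRingCat.of A))) m) ?_
        refine (rho_id a).trans ?_
        have e2 : (Spec (CommRingCat.of A)).presheaf.map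
            ((initialOpOfTerminal (isTerminalTop (α := (Spec (CommRingCat.of A)).Opens))).to (op ⊤)) = 𝟙 _ := by
          rw [Subsingleton.elim ((initialOpOfTerminal _).to (op ⊤)) (𝟙 _), CategoryTheory.Functor.map_id]
        exact (ConcreteCategory.congr_hom e2 _).symm }) (fun _ => rfl)

/-- Sections of the sheaf of a module. -/
noncomputable def secTildeIso :
    tilde.functor (CommRingCat.of A) ⋙ secA (𝟙 (Spec (CommRingCat.of A))) ⊤ ≅ 𝟭 (ModuleCat.{u} A) :=
  Functor.isoWhiskerLeft (tilde.functor (CommRingCat.of A)) secTopIso ≪≫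
    (tilde.toTildeΓNatIso (R := CommRingCat.of A)).symm

end Groth.Agent.Lib.CechRes.SpecBase
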